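import Groth.Agent.H48.Abhy
import Groth.Agent.Lib.Dim.Integral
import Mathlib.RingTheory.Unramified.LocalRing
import Mathlib.RingTheory.Unramified.Locus
import Mathlib.RingTheory.DedekindDomain.IntegralClosure
import Mathlib.RingTheory.DedekindDomain.Dvr
import Mathlib.RingTheory.Ideal.GoingUp
import Mathlib.RingTheory.KrullDimension.NonZeroDivisors

/-!
Unramifiedness of integral closures at height-one primes, detected by valuations of a big field.
-/

set_option autoImplicit false
universe u

open IsLocalRing EtRam

namespace Groth.Agent.Lib.Abhyankar.Val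

open Groth.Agent.H48

/-- Localizations of normal Noetherian domains at height one primes are discrete valuation rings. -/
theorem isDVR_atPrime (A : Type u) [CommRing A] [IsDomain A] [IsNoetherianRing A] [IsIntegrallyClosed A]
    (P : Ideal A) [P.IsPrime] (h0 : P ≠ ⊥) (h1 : P.height ≤ 1) :
    IsDiscreteValuationRing (Localization.AtPrime P) := by
  let R := Localization.AtPrime P
  have : IsIntegrallyClosed R :=
    isIntegrallyClosed_of_isLocalization R P.primeCompl (Ideal.primeCompl_le_nonZeroDivisors P)
  have : IsNoetherianRing R := IsLocalization.isNoetherianRing P.primeCompl R inferInstance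
  have hdim : Ring.KrullDimLE 1 R := by
    refine Ring.krullDimLE_iff.2 ?_
    rw [IsLocalization.AtPrime.ringKrullDim_eq_height P R]
    exact WithBot.coe_le_coe.2 h1
  have hnf : ¬ IsField R := IsLocalization.AtPrime.not_isField A h0 R
  have : Ring.DimensionLEOne R := ⟨fun h hp => Ring.krullDimLE_one_iff_of_noZeroDivisors.1 hdim _ h hp⟩
  have : IsDedekindDomain R := { }
  exact ((IsDiscreteValuationRing.TFAE R hnf).out 2 0 rfl rfl).1 ‹IsDedekindDomain R›

/-- A valuation ring centred at a height one prime of a normal Noetherian domain is its local ring. -/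
theorem isLocalization_of_center {C G : Type u} [CommRing C] [IsDomain C] [IsNoetherianRing C]
    [IsIntegrallyClosed C] [Field G] [Algebra C G] [IsFractionRing C G] (V : ValuationSubring G)
    (q : Ideal C) [q.IsPrime] (h0 : q ≠ ⊥) (h1 : q.height ≤ 1)
    (hmem : ∀ c : C, algebraMap C G c ∈ V)
    (hc : ∀ c : C, V.valuation (algebraMap C G c) < 1 ↔ c ∈ q) :
    letI : Algebra C V := ((algebraMap C G).codRestrict V hmem).toAlgebra
    IsLocalization.AtPrime V q := by
  let _ : Algebra C V := ((algebraMap C G).codRestrict V hmem).toAlgebra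
  let R := Localization.AtPrime q
  have := isDVR_atPrime C q h0 h1
  have hu : ∀ y : q.primeCompl, IsUnit (algebraMap C V y) := fun y => by
    by_contra hy
    exact y.2 ((hc _).1 ((ValuationSubring.valuation_lt_one_iff V _).1 ((mem_maximalIdeal _).2 hy)))
  let φ : R →+* V := IsLocalization.lift (g := algebraMap C V) hu
  let _ : Algebra R G := (V.subtype.comp φ).toAlgebra
  have : IsScalarTower C R G := IsScalarTower.of_algebraMap_eq fun c => by
    show _ = V.subtype (φ _)
    rw [IsLocalization.lift_eq]; rfl
  have : IsFractionRing R G :=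
    IsFractionRing.isFractionRing_of_isDomain_of_isLocalization q.primeCompl _ _
  have hinj : Function.Injective φ := fun a b h =>
    IsFractionRing.injective R G (congrArg Subtype.val h)
  have : IsLocalHom φ := ⟨fun r hr => by
    obtain ⟨⟨c, d⟩, rfl⟩ := IsLocalization.mk'_surjective q.primeCompl r
    refine (IsLocalization.AtPrime.isUnit_mk'_iff R q c d).2 fun hcq => ?_
    have he : φ (IsLocalization.mk' _ c d) * algebraMap C V d = algebraMap C V c := by
      rw [← IsLocalization.lift_eq (g := algebraMap C V) (S := R) hu (d : C), ← map_mul,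
        IsLocalization.mk'_spec, IsLocalization.lift_eq]
    have : IsUnit (algebraMap C V c) := he ▸ hr.mul (hu d)
    exact (mem_maximalIdeal _).1 ((ValuationSubring.valuation_lt_one_iff V _).2 ((hc c).2 hcq)) this⟩
  have hsurj : Function.Surjective φ := by
    intro x
    rcases ValuationRing.isInteger_or_isInteger R (x : G) with ⟨s, hs⟩ | ⟨s, hs⟩
    · exact ⟨s, Subtype.ext hs⟩
    · by_cases hx : x = 0
      · exact ⟨0, by rw [hx, map_zero]⟩
      have h1 : x * φ s = 1 := Subtype.ext (show (x : G) * (φ s : G) = 1 by
        rw [show (φ s : G) = (x : G)⁻¹ from hs]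
        exact mul_inv_cancel₀ fun h => hx (Subtype.ext h))
      have hsu : IsUnit s := IsUnit.of_map φ s (IsUnit.of_mul_eq_one x (by rw [mul_comm]; exact h1))
      exact ⟨(hsu.unit⁻¹ : Rˣ), by
        rw [← mul_one (φ _), ← h1, mul_left_comm, ← map_mul, IsUnit.val_inv_mul, map_one, mul_one]⟩
  exact IsLocalization.isLocalization_of_algEquiv q.primeCompl
    (AlgEquiv.ofBijective ({ φ with commutes' := fun c => IsLocalization.lift_eq _ c } : R →ₐ[C] V)
      ⟨hinj, hsurj⟩)

variable (A : Type u) [CommRing A] [IsDomain A] [IsNoetherianRing A] [IsIntegrallyClosed A]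
  {F : Type u} [Field F] [Algebra A F] [IsFractionRing A F]
  {Ω : Type u} [Field Ω] [Algebra F Ω] [Algebra A Ω] [IsScalarTower A F Ω]

/-- `W` is centred at the prime `P` of `A`. -/
def Centred (W : ValuationSubring Ω) (P : Ideal A) : Prop :=
  (∀ a : A, algebraMap A Ω a ∈ W) ∧ ∀ a : A, W.valuation (algebraMap A Ω a) < 1 ↔ a ∈ P

variable {A}

/-- A centred valuation ring dominates the local ring of the centre. -/
theorem exists_dominates {W : ValuationSubring Ω} {P : Ideal A} [P.IsPrime] (hW : Centred A W P)
    (h0 : P ≠ ⊥) (h1 : P.height ≤ 1) :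
    ∃ (R : Type u) (_ : CommRing R) (_ : IsDomain R) (_ : IsDiscreteValuationRing R) (_ : Algebra R F)
      (_ : IsFractionRing R F) (j : A →+* R), (∀ a, algebraMap R F (j a) = algebraMap A F a) ∧
      (∀ a, j a ∈ maximalIdeal R ↔ a ∈ P) ∧
      (∀ r : R, ∃ a d, d ∉ P ∧ r * j d = j a) ∧
      Dominates R ((algebraMap F Ω).comp (algebraMap R F)) W := by
  let R := Localization.AtPrime P
  have := isDVR_atPrime A P h0 h1
  let _ : Algebra R F := (IsLocalization.lift (M := P.primeCompl) (g := algebraMap A F) fun y =>
    (IsFractionRing.to_map_ne_zero_of_mem_nonZeroDivisors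
      (Ideal.primeCompl_le_nonZeroDivisors P y.2) : algebraMap A F y ≠ 0).isUnit).toAlgebra
  have : IsScalarTower A R F := IsScalarTower.of_algebraMap_eq fun a =>
    (IsLocalization.lift_eq _ a).symm
  have : IsFractionRing R F :=
    IsFractionRing.isFractionRing_of_isDomain_of_isLocalization P.primeCompl _ _
  refine ⟨R, inferInstance, inferInstance, inferInstance, inferInstance, inferInstance, algebraMap A R,
    fun a => (IsScalarTower.algebraMap_apply A R F a).symm,
    fun a => IsLocalization.AtPrime.to_map_mem_maximal_iff R P a, fun r => ?_, ?_⟩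
  · obtain ⟨⟨a, d⟩, h⟩ := IsLocalization.surj P.primeCompl r
    exact ⟨a, d, d.2, h⟩
  have hA : ∀ a, algebraMap F Ω (algebraMap R F (algebraMap A R a)) = algebraMap A Ω a := fun a => by
    rw [← IsScalarTower.algebraMap_apply A R F, ← IsScalarTower.algebraMap_apply A F Ω]
  have hval : ∀ (a : A) (d : P.primeCompl),
      W.valuation (algebraMap F Ω (algebraMap R F (IsLocalization.mk' R a d))) =
        W.valuation (algebraMap A Ω a) := fun a d => by
    have hd : W.valuation (algebraMap A Ω (d : A)) = 1 :=
      le_antisymm ((W.valuation_le_one_iff _).2 (hW.1 _)) (not_lt.1 fun h => d.2 ((hW.2 _).1 h))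
    rw [← hA a, ← IsLocalization.mk'_spec R a d, map_mul, map_mul, map_mul, hA, hd, mul_one]
  refine ⟨fun r => ?_, fun r hr => ?_⟩
  · obtain ⟨⟨a, d⟩, rfl⟩ := IsLocalization.mk'_surjective P.primeCompl r
    refine (W.valuation_le_one_iff _).1 ?_
    rw [RingHom.comp_apply, hval]
    exact (W.valuation_le_one_iff _).2 (hW.1 _)
  · obtain ⟨⟨a, d⟩, rfl⟩ := IsLocalization.mk'_surjective P.primeCompl r
    rw [RingHom.comp_apply, hval]
    exact (hW.2 a).2 ((IsLocalization.AtPrime.mk'_mem_maximal_iff R P a d).1 hr)

theorem injective_integralClosure (E : IntermediateField F Ω) :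
    Function.Injective (algebraMap A (integralClosure A E)) := fun a b hab =>
  IsFractionRing.injective A F ((algebraMap F Ω).injective (by
    rw [← IsScalarTower.algebraMap_apply A F Ω, ← IsScalarTower.algebraMap_apply A F Ω]
    exact congrArg (fun x : integralClosure A E => ((x : E) : Ω)) hab))

/-- The map of integral closures. -/
noncomputable def inc {E G : IntermediateField F Ω} (h : E ≤ G) :
    integralClosure A E →ₐ[A] integralClosure A G :=
  (((IntermediateField.inclusion h).restrictScalars A).comp (integralClosure A E).val).codRestrict _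
    fun x => x.2.map ((IntermediateField.inclusion h).restrictScalars A)

/-- Unramifiedness at a prime over a height one prime, by valuations. -/
theorem isUnramifiedAt {E G : IntermediateField F Ω} (h : E ≤ G) [FiniteDimensional F G]
    [Algebra.IsSeparable F G] (q : Ideal (integralClosure A G)) [q.IsPrime]
    (hP0 : q.comap (algebraMap A _) ≠ ⊥) (hP1 : (q.comap (algebraMap A _)).height ≤ 1)
    (hW : ∀ W : ValuationSubring Ω, Centred A W (q.comap (algebraMap A _)) →
      Abhy.e W h = 1 ∧ Abhy.S W h) :
    letI := (inc (A := A) h).toAlgebra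
    Algebra.IsUnramifiedAt (integralClosure A E) q := by
  let _ := (inc (A := A) h).toAlgebra
  let P := q.comap (algebraMap A (integralClosure A G))
  have : FiniteDimensional F E := Abhy.fin_le h
  have : Algebra.IsSeparable F E := Algebra.IsSeparable.of_algHom F G (IntermediateField.inclusion h)
  let C := integralClosure A G
  let B := integralClosure A E
  have : IsFractionRing C G := integralClosure.isFractionRing_of_finite_extension F G
  have : IsFractionRing B E := integralClosure.isFractionRing_of_finite_extension F E
  have : Module.Finite A C := IsIntegralClosure.finite A F G C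
  have : Module.Finite A B := IsIntegralClosure.finite A F E B
  have : IsNoetherianRing C := IsNoetherianRing.of_finite A C
  have : IsNoetherianRing B := IsNoetherianRing.of_finite A B
  have : IsIntegrallyClosed C := integralClosure.isIntegrallyClosedOfFiniteExtension F
  have : IsIntegrallyClosed B := integralClosure.isIntegrallyClosedOfFiniteExtension F
  have : IsScalarTower A B C := IsScalarTower.of_algebraMap_eq fun a => ((inc (A := A) h).commutes a).symm
  have : Algebra.IsIntegral A C := Algebra.IsIntegral.of_finite A C
  have : Algebra.IsIntegral A B := Algebra.IsIntegral.of_finite A B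
  let p := q.comap (algebraMap B C)
  have hpP : p.comap (algebraMap A B) = P := by
    rw [Ideal.comap_comap, ← IsScalarTower.algebraMap_eq]
  have hq0 : q ≠ ⊥ := fun e => hP0 (by
    rw [e, ← RingHom.ker_eq_comap_bot, RingHom.injective_iff_ker_eq_bot _ |>.1]
    exact injective_integralClosure G)
  have hp0 : p ≠ ⊥ := fun e => hP0 (by
    show P = ⊥
    rw [← hpP, e, ← RingHom.ker_eq_comap_bot, RingHom.injective_iff_ker_eq_bot _ |>.1]
    exact injective_integralClosure E)
  have hq1 : q.height ≤ 1 := (Groth.Agent.Lib.Dim.Integral.height_le_height_under (R := A) q).trans hP1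
  have hp1 : p.height ≤ 1 := by
    refine (Groth.Agent.Lib.Dim.Integral.height_le_height_under (R := A) p).trans ?_
    show (p.comap (algebraMap A B)).height ≤ 1
    rw [hpP]; exact hP1
  -- a valuation ring centred at `q`
  let Lq := Localization.AtPrime q
  let jG : C →+* Ω := G.val.toRingHom.comp C.val.toRingHom
  have hjG : Function.Injective jG := G.val.toRingHom.injective.comp Subtype.val_injective
  let ψ : Lq →+* Ω := IsLocalization.lift (M := q.primeCompl) (g := jG) fun y =>
    (isUnit_iff_ne_zero.2 ((map_ne_zero_iff jG hjG).2 fun e => y.2 (e ▸ q.zero_mem)))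
  have : IsLocalRing ψ.range := IsLocalRing.of_surjective' ψ.rangeRestrict ψ.rangeRestrict_surjective
  obtain ⟨W, hWle⟩ := (LocalSubring.range ψ).exists_le_valuationSubring
  have hmemC : ∀ c, jG c ∈ W := fun c => hWle.1 ⟨algebraMap C Lq c, IsLocalization.lift_eq _ c⟩
  have hcC : ∀ c, W.valuation (jG c) < 1 ↔ c ∈ q := fun c => by
    have hu : IsUnit (⟨jG c, hmemC c⟩ : W) ↔ c ∉ q := by
      constructor
      · intro hu hcq
        have hx : (⟨jG c, ⟨algebraMap C Lq c, IsLocalization.lift_eq _ c⟩⟩ : ψ.range) ∈ maximalIdeal ψ.range := by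
          have := (IsLocalization.AtPrime.to_map_mem_maximal_iff Lq q c).2 hcq
          intro hux
          have hloc : IsLocalHom ψ.rangeRestrict :=
            ⟨fun r hr => by
                by_contra hnu
                have hker : RingHom.ker ψ.rangeRestrict ≤ maximalIdeal Lq := le_maximalIdeal (RingHom.ker_ne_top _)
                obtain ⟨v, hv⟩ := hr.exists_right_inv
                obtain ⟨v, rfl⟩ := ψ.rangeRestrict_surjective v
                rw [← map_mul, ← sub_eq_zero, ← map_one ψ.rangeRestrict, ← map_sub] at hv
                refine (maximalIdeal.isMaximal Lq).ne_top ((Ideal.eq_top_iff_one _).2 ?_)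
                have h2 := Ideal.mul_mem_right v _ ((mem_maximalIdeal r).2 hnu)
                simpa using sub_mem h2 (hker hv)⟩
          refine this (hloc.map_nonunit _ ?_)
          have h : ψ.rangeRestrict (algebraMap C Lq c) = (⟨jG c, ⟨algebraMap C Lq c, IsLocalization.lift_eq _ c⟩⟩ : ψ.range) :=
            Subtype.ext (IsLocalization.lift_eq _ c)
          exact h ▸ hux
        exact (mem_maximalIdeal _).1 hx (hWle.2.map_nonunit _ hu)
      · intro hcq
        have : IsUnit (algebraMap C Lq c) := IsLocalization.map_units Lq (⟨c, hcq⟩ : q.primeCompl)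
        have := (this.map ψ.rangeRestrict).map (Subring.inclusion hWle.1)
        have h : Subring.inclusion hWle.1 (ψ.rangeRestrict (algebraMap C Lq c)) = (⟨jG c, hmemC c⟩ : W) :=
          Subtype.ext (IsLocalization.lift_eq _ c)
        exact h ▸ this
    rw [← ValuationSubring.valuation_lt_one_iff W ⟨jG c, hmemC c⟩]
    exact (mem_maximalIdeal _).trans (not_iff_comm.1 (Iff.symm hu))
  have hAC : ∀ a, jG (algebraMap A C a) = algebraMap A Ω a := fun a =>
    ((G.val.restrictScalars A).comp C.val).commutes a
  have hWP : Centred A W P := ⟨fun a => hAC a ▸ hmemC _, fun a => by rw [← hAC, hcC]; rfl⟩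
  obtain ⟨he, hS⟩ := hW W hWP
  obtain ⟨R, _, _, _, _, _, j, hj, -, -, hdom⟩ := exists_dominates (F := F) hWP hP0 hP1
  have := Abhy.isDVR hdom E
  have := Abhy.isDVR hdom G
  have hCV : ∀ c : C, algebraMap C G c ∈ Abhy.V W G := fun c => hmemC c
  have hBV : ∀ b : B, algebraMap B E b ∈ Abhy.V W E := fun b => hmemC (inc (A := A) h b)
  let _ : Algebra C (Abhy.V W G) := ((algebraMap C G).codRestrict (Abhy.V W G) hCV).toAlgebra
  let _ : Algebra B (Abhy.V W E) := ((algebraMap B E).codRestrict (Abhy.V W E) hBV).toAlgebra
  have hlG : IsLocalization.AtPrime (Abhy.V W G) q := isLocalization_of_center (Abhy.V W G) q hq0 hq1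
    hCV fun c => DomVal.valuation_comap_lt_one.trans (hcC c)
  have hlE : IsLocalization.AtPrime (Abhy.V W E) p := isLocalization_of_center (Abhy.V W E) p hp0 hp1
    hBV fun b => DomVal.valuation_comap_lt_one.trans (hcC (inc (A := A) h b))
  let _ := (Abhy.res W h).toAlgebra
  have : IsLocalHom (algebraMap (Abhy.V W E) (Abhy.V W G)) := Abhy.isLocalHom_res W h
  let _ : Algebra B (Abhy.V W G) := ((algebraMap C (Abhy.V W G)).comp (algebraMap B C)).toAlgebra
  have : IsScalarTower B C (Abhy.V W G) := IsScalarTower.of_algebraMap_eq fun _ => rfl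
  have : IsScalarTower B (Abhy.V W E) (Abhy.V W G) := IsScalarTower.of_algebraMap_eq fun b =>
    Subtype.ext (Subtype.ext rfl)
  have : Algebra.EssFiniteType B C := by
    have : Module.Finite B C := Module.Finite.of_restrictScalars_finite A B C
    infer_instance
  have : Algebra.EssFiniteType C (Abhy.V W G) :=
    Algebra.EssFiniteType.of_isLocalization (Abhy.V W G) q.primeCompl
  have : Algebra.EssFiniteType B (Abhy.V W G) := Algebra.EssFiniteType.comp B C _
  have : Algebra.EssFiniteType (Abhy.V W E) (Abhy.V W G) := Algebra.EssFiniteType.of_comp B _ _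
  have : Algebra.IsSeparable (ResidueField (Abhy.V W E)) (ResidueField (Abhy.V W G)) := hS
  have : Algebra.FormallyUnramified (Abhy.V W E) (Abhy.V W G) :=
    Algebra.FormallyUnramified.of_map_maximalIdeal
      ((DomVal.isWeaklyUnramified_iff (Abhy.res_injective W h)).2 he)
  have : Algebra.FormallyUnramified B (Abhy.V W E) :=
    Algebra.FormallyUnramified.of_isLocalization p.primeCompl
  have : Algebra.FormallyUnramified B (Abhy.V W G) := Algebra.FormallyUnramified.comp B (Abhy.V W E) _
  exact Algebra.FormallyUnramified.of_equiv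
    ((IsLocalization.algEquiv q.primeCompl (Abhy.V W G) (Localization.AtPrime q)).restrictScalars B)

end Groth.Agent.Lib.Abhyankar.Val
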