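import Groth.Agent.H48.Abhy
import Groth.Agent.H48.DomVal
import Groth.Agent.H48.DomTower
import Mathlib.RingTheory.Ideal.GoingDown
import Mathlib.RingTheory.Flat.TorsionFree
import Mathlib.RingTheory.TensorProduct.Quotient
import Mathlib.RingTheory.Ideal.Cotangent
import Mathlib.RingTheory.Valuation.LocalSubring
import Mathlib.FieldTheory.IsAlgClosed.AlgebraicClosure

/-!
Base change of parameters and of valuations.
-/

set_option autoImplicit false
universe u

open IsLocalRing EtRam
open scoped TensorProduct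

namespace Groth.Agent.Lib.Abhyankar.BaseChange

open Groth.Agent.H48

/-- Part of a regular system of parameters stays one after an unramified flat extension. -/
theorem linearIndependent_map (A S : Type u) [CommRing A] [IsLocalRing A] [CommRing S] [IsLocalRing S]
    [Algebra A S] [Module.Flat A S] (hmax : (maximalIdeal A).map (algebraMap A S) = maximalIdeal S)
    {r : ℕ} (f : Fin r → A) (hm : ∀ i, f i ∈ maximalIdeal A)
    (hf : LinearIndependent (ResidueField A) (fun i => (maximalIdeal A).toCotangent ⟨f i, hm i⟩))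
    (hm' : ∀ i, algebraMap A S (f i) ∈ maximalIdeal S) :
    LinearIndependent (ResidueField S) (fun i => (maximalIdeal S).toCotangent ⟨algebraMap A S (f i), hm' i⟩) := by
  classical
  rw [Fintype.linearIndependent_iff]
  intro g hg j
  choose c hc using fun i => residue_surjective (g i)
  have hsum : ∑ i, c i * algebraMap A S (f i) ∈ (maximalIdeal A ^ 2).map (algebraMap A S) := by
    rw [Ideal.map_pow, hmax]
    have h0 : (maximalIdeal S).toCotangent
        (∑ i, c i • (⟨algebraMap A S (f i), hm' i⟩ : maximalIdeal S)) = 0 := by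
      rw [map_sum, ← hg]
      refine Finset.sum_congr rfl fun i _ => ?_
      rw [map_smul, ← hc i]
      rfl
    have := (Ideal.toCotangent_eq_zero _ _).1 h0
    simpa [AddSubmonoid.coe_finset_sum] using this
  let v := fun i => (maximalIdeal A).toCotangent ⟨f i, hm i⟩
  let Ψ : (Fin r → ResidueField A) →ₗ[A] A ⧸ maximalIdeal A ^ 2 :=
    (((maximalIdeal A).cotangentToQuotientSquare).restrictScalars A).comp
      ((Fintype.linearCombination (ResidueField A) v).restrictScalars A)
  have hΨ : Function.Injective Ψ :=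
    (Ideal.cotangentToQuotientSquare_injective _).comp hf.fintypeLinearCombination_injective
  have hΨi : ∀ i, Ψ (Pi.single i 1) = Submodule.Quotient.mk (f i) := fun i => by
    show (maximalIdeal A).cotangentToQuotientSquare (Fintype.linearCombination (ResidueField A) v (Pi.single i 1)) = _
    rw [Fintype.linearCombination_apply_single, one_smul]
    rfl
  let z : S ⊗[A] (Fin r → ResidueField A) := ∑ i, c i ⊗ₜ[A] (Pi.single i 1 : Fin r → ResidueField A)
  have hz : z = 0 := by
    refine Module.Flat.lTensor_preserves_injective_linearMap Ψ hΨ ?_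
    rw [map_zero, map_sum]
    refine (Algebra.TensorProduct.quotIdealMapEquivTensorQuot S (maximalIdeal A ^ 2 : Ideal A)).symm.injective ?_
    rw [map_zero, map_sum]
    simp only [LinearMap.lTensor_tmul, hΨi]
    rw [← Ideal.Quotient.eq_zero_iff_mem.2 hsum, map_sum]
    refine Finset.sum_congr rfl fun i _ => ?_
    show (Algebra.TensorProduct.quotIdealMapEquivTensorQuot S (maximalIdeal A ^ 2 : Ideal A)).symm
      (c i ⊗ₜ[A] Ideal.Quotient.mk (maximalIdeal A ^ 2) (f i)) = _
    rw [← Ideal.Quotient.algebraMap_eq, Algebra.algebraMap_eq_smul_one, ← TensorProduct.smul_tmul,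
      AlgEquiv.symm_apply_eq, Algebra.TensorProduct.quotIdealMapEquivTensorQuot_mk, Algebra.smul_def, mul_comm]
  have hj := congrArg (LinearMap.lTensor S (LinearMap.proj (R := A) (φ := fun _ : Fin r => ResidueField A) j)) hz
  rw [map_zero, map_sum, Finset.sum_eq_single j (fun i _ hi => by
      rw [LinearMap.lTensor_tmul, LinearMap.proj_apply, Pi.single_eq_of_ne hi.symm, TensorProduct.tmul_zero])
    (fun h => absurd (Finset.mem_univ j) h), LinearMap.lTensor_tmul, LinearMap.proj_apply, Pi.single_eq_same] at hj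
  have hj' : Ideal.Quotient.mk ((maximalIdeal A).map (algebraMap A S)) (c j) = 0 := by
    refine (Algebra.TensorProduct.quotIdealMapEquivTensorQuot S (maximalIdeal A)).injective ?_
    rw [map_zero, Algebra.TensorProduct.quotIdealMapEquivTensorQuot_mk]
    exact hj
  rw [← hc j, residue_eq_zero_iff, ← hmax]
  exact Ideal.Quotient.eq_zero_iff_mem.1 hj'

/-- A valuation extends over any flat extension of the base valuation ring. -/
theorem exists_over {R : Type u} [CommRing R] [IsDomain R] [IsDiscreteValuationRing R] {K : Type u} [Field K]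
    [Algebra R K] [IsFractionRing R K] {S : Type u} [CommRing S] [IsDomain S] [IsDiscreteValuationRing S]
    (φ : R →+* S) [IsLocalHom φ] (hφ : Function.Injective φ) {K' : Type u} [Field K'] [Algebra S K']
    [IsFractionRing S K'] [Algebra K K'] (hKK : ∀ a, algebraMap K K' (algebraMap R K a) = algebraMap S K' (φ a))
    {L : Type u} [Field L] [Algebra K L] (V : ValuationSubring L)
    (hV : Dominates R ((algebraMap K L).comp (algebraMap R K)) V) :
    ∃ (Ω : Type u) (_ : Field Ω) (_ : IsAlgClosed Ω) (_ : Algebra K' Ω) (j : L →+* Ω),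
      (∀ x : K, j (algebraMap K L x) = algebraMap K' Ω (algebraMap K K' x)) ∧
      ∃ W : ValuationSubring Ω, Dominates S ((algebraMap K' Ω).comp (algebraMap S K')) W ∧
        W.comap j = V := by
  classical
  let _ : Algebra R V := (RingHom.codRestrict _ V hV.1).toAlgebra
  let _ : Algebra R S := φ.toAlgebra
  have hVloc : IsLocalHom (algebraMap R V) := DomVal.isLocalHom_of_dominates hV
  have hSloc : IsLocalHom (algebraMap R S) := ‹IsLocalHom φ›
  have : Module.Flat R S := by
    rw [Module.Flat.flat_iff_torsion_eq_bot_of_isBezout, eq_bot_iff]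
    intro x hx
    obtain ⟨⟨a, ha⟩, hax⟩ := (Submodule.mem_torsion_iff _).mp hx
    refine (Submodule.mem_bot R).2 ?_
    have h : φ a * x = 0 := hax
    exact (mul_eq_zero.1 h).resolve_left ((map_ne_zero_iff _ hφ).2 (nonZeroDivisors.ne_zero ha))
  let T := V ⊗[R] S
  let κR := ResidueField R
  let P := ResidueField V ⊗[κR] ResidueField S
  have : Nontrivial P := (Algebra.TensorProduct.includeRight_injective (R := κR) (A := ResidueField V)
    (B := ResidueField S) (algebraMap κR (ResidueField V)).injective).nontrivial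
  obtain ⟨𝔫, h𝔫⟩ := Ideal.exists_maximal P
  let eV : ResidueField V →ₐ[κR] P ⧸ 𝔫 := (Ideal.Quotient.mkₐ κR 𝔫).comp Algebra.TensorProduct.includeLeft
  let eS : ResidueField S →ₐ[κR] P ⧸ 𝔫 := (Ideal.Quotient.mkₐ κR 𝔫).comp Algebra.TensorProduct.includeRight
  let gV : V →ₐ[R] P ⧸ 𝔫 := { eV.toRingHom.comp (residue V) with commutes' := fun a => (eV.commutes (residue R a)).trans (IsScalarTower.algebraMap_apply R κR (P ⧸ 𝔫) a).symm }
  let gS : S →ₐ[R] P ⧸ 𝔫 := { eS.toRingHom.comp (residue S) with commutes' := fun a => (eS.commutes (residue R a)).trans (IsScalarTower.algebraMap_apply R κR (P ⧸ 𝔫) a).symm }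
  let τ : T →ₐ[R] P ⧸ 𝔫 := Algebra.TensorProduct.lift gV gS fun _ _ => Commute.all _ _
  have hτV : ∀ v : V, τ (v ⊗ₜ 1) = eV (residue V v) := fun v => by
    show Algebra.TensorProduct.lift gV gS _ (v ⊗ₜ 1) = _
    rw [Algebra.TensorProduct.lift_tmul, map_one, mul_one]; rfl
  have hτS : ∀ s : S, τ (1 ⊗ₜ s) = eS (residue S s) := fun s => by
    show Algebra.TensorProduct.lift gV gS _ (1 ⊗ₜ s) = _
    rw [Algebra.TensorProduct.lift_tmul, map_one, one_mul]; rfl
  have : IsDomain (P ⧸ 𝔫) := Ideal.Quotient.isDomain 𝔫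
  let M : Ideal T := RingHom.ker τ.toRingHom
  have hM : M.IsPrime := RingHom.ker_isPrime _
  have hMV : ∀ v : V, v ⊗ₜ[R] (1 : S) ∈ M ↔ v ∈ maximalIdeal V := fun v => by
    rw [RingHom.mem_ker]
    exact (by rw [show τ.toRingHom (v ⊗ₜ 1) = eV (residue V v) from hτV v, map_eq_zero, residue_eq_zero_iff] :
      τ.toRingHom (v ⊗ₜ 1) = 0 ↔ v ∈ maximalIdeal V)
  have hMS : ∀ s : S, (1 : V) ⊗ₜ[R] s ∈ M ↔ s ∈ maximalIdeal S := fun s => by
    rw [RingHom.mem_ker]
    exact (by rw [show τ.toRingHom (1 ⊗ₜ s) = eS (residue S s) from hτS s, map_eq_zero, residue_eq_zero_iff] :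
      τ.toRingHom (1 ⊗ₜ s) = 0 ↔ s ∈ maximalIdeal S)
  have : M.LiesOver (maximalIdeal V) := ⟨Ideal.ext fun v => (hMV v).symm⟩
  obtain ⟨p, hpM, hp, hp0⟩ := Ideal.exists_ideal_le_liesOver_of_le (p := (⊥ : Ideal V)) (q := maximalIdeal V) M bot_le
  let Fr := FractionRing (T ⧸ p)
  let Ω := AlgebraicClosure Fr
  let θ : T →+* Ω := ((algebraMap Fr Ω).comp (algebraMap (T ⧸ p) Fr)).comp (Ideal.Quotient.mk p)
  have hθ : ∀ x, θ x = 0 ↔ x ∈ p := fun x => by
    show algebraMap Fr Ω (algebraMap (T ⧸ p) Fr (Ideal.Quotient.mk p x)) = 0 ↔ _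
    rw [map_eq_zero, map_eq_zero_iff _ (IsFractionRing.injective (T ⧸ p) Fr), Ideal.Quotient.eq_zero_iff_mem]
  let θV : V →+* Ω := θ.comp (Algebra.TensorProduct.includeLeftRingHom : V →+* T)
  let θS : S →+* Ω := θ.comp (Algebra.TensorProduct.includeRight : S →ₐ[R] T).toRingHom
  have hθV : Function.Injective θV := (injective_iff_map_eq_zero θV).2 fun v hv => by
    have : v ∈ p.under V := (hθ _).1 hv
    rwa [← hp0.over, Ideal.mem_bot] at this
  have hcompat : ∀ a : R, θV (algebraMap R V a) = θS (φ a) := fun a => by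
    show θ (algebraMap R V a ⊗ₜ 1) = θ (1 ⊗ₜ algebraMap R S a)
    rw [← Algebra.TensorProduct.algebraMap_apply, ← Algebra.TensorProduct.tmul_one_eq_one_tmul]
    rfl
  have hRV : Function.Injective (algebraMap R V) := fun a b h =>
    IsFractionRing.injective R K ((algebraMap K L).injective (congrArg Subtype.val h))
  have hθS : Function.Injective θS := by
    rw [injective_iff_map_eq_zero]
    intro s hs
    by_contra hs0
    obtain ⟨ϖ, hϖ⟩ := IsDiscreteValuationRing.exists_irreducible S
    obtain ⟨π, hπ⟩ := IsDiscreteValuationRing.exists_irreducible R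
    obtain ⟨k, u, rfl⟩ := IsDiscreteValuationRing.eq_unit_mul_pow_irreducible hs0 hϖ
    rw [map_mul, map_pow, mul_eq_zero] at hs
    have h0 : θS ϖ = 0 := eq_zero_of_pow_eq_zero (hs.resolve_left ((u.isUnit.map θS).ne_zero))
    obtain ⟨m, w, hw⟩ := IsDiscreteValuationRing.eq_unit_mul_pow_irreducible
      ((map_ne_zero_iff _ hφ).2 hπ.ne_zero) hϖ
    have hnu : ¬ IsUnit (φ π) := fun h => hπ.not_isUnit (IsUnit.of_map φ π h)
    rcases Nat.eq_zero_or_pos m with rfl | hmpos
    · exact hnu (by rw [hw, pow_zero, mul_one]; exact w.isUnit)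
    refine (map_ne_zero_iff _ hθV).2 ((map_ne_zero_iff _ hRV).2 hπ.ne_zero) ?_
    rw [hcompat, hw, map_mul, map_pow, h0, zero_pow hmpos.ne', mul_zero]
  let _ : Algebra K' Ω := (IsFractionRing.lift hθS).toAlgebra
  have : IsFractionRing V L := inferInstance
  let j : L →+* Ω := IsFractionRing.lift hθV
  have hj : ∀ v : V, j v = θV v := fun v => IsFractionRing.lift_algebraMap hθV v
  have hK' : ∀ s : S, algebraMap K' Ω (algebraMap S K' s) = θS s := fun s => IsFractionRing.lift_algebraMap hθS s
  have hjK : ∀ x : K, j (algebraMap K L x) = algebraMap K' Ω (algebraMap K K' x) := by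
    intro x
    obtain ⟨a, b, -, rfl⟩ := IsFractionRing.div_surjective (A := R) x
    simp only [map_div₀, hKK, hK']
    rw [← hcompat, ← hcompat]
    exact congrArg₂ (· / ·) (hj (algebraMap R V a)) (hj (algebraMap R V b))
  let TM := Localization.AtPrime M
  let ψ : TM →+* Ω := IsLocalization.lift (M := M.primeCompl) (g := θ)
    fun y => isUnit_iff_ne_zero.2 fun h => y.2 (hpM ((hθ _).1 h))
  obtain ⟨W, hW, hWloc⟩ := IsLocalRing.exists_factor_valuationRing (R := Localization.AtPrime M) ψ
  have hψ : ∀ x, ψ (algebraMap T TM x) = θ x := fun x => IsLocalization.lift_eq _ x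
  have hmem : ∀ x, θ x ∈ W := fun x => hψ x ▸ hW _
  have hlt : ∀ x, x ∈ M → W.valuation (θ x) < 1 := fun x hx => by
    rw [← hψ]
    have := (IsLocalization.AtPrime.to_map_mem_maximal_iff TM M x).2 hx
    refine (ValuationSubring.valuation_lt_one_iff W ⟨_, hW _⟩).1 ((mem_maximalIdeal _).2 fun hu => ?_)
    exact (mem_maximalIdeal _).1 this (hWloc.map_nonunit _ hu)
  refine ⟨Ω, inferInstance, inferInstance, inferInstance, j, hjK, W,
    ⟨fun s => ?_, fun s hs => ?_⟩, ?_⟩
  · rw [RingHom.comp_apply, hK']; exact hmem _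
  · rw [RingHom.comp_apply, hK']; exact hlt _ ((hMS s).2 hs)
  · refine le_antisymm (fun x hx => ?_) fun x hx => ?_
    · by_contra hxV
      have hx0 : x ≠ 0 := fun h => hxV (h ▸ V.zero_mem)
      have hi : x⁻¹ ∈ V := (V.mem_or_inv_mem x).resolve_left hxV
      have hiM : (⟨x⁻¹, hi⟩ : V) ∈ maximalIdeal V := (mem_maximalIdeal _).2 fun hu => hxV (by
        obtain ⟨y, hy⟩ := hu.exists_left_inv
        have hy' : (y : L) * x⁻¹ = 1 := congrArg Subtype.val hy
        rw [mul_inv_eq_one₀ hx0] at hy'
        exact hy' ▸ y.2)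
      have h1 := hlt _ ((hMV ⟨x⁻¹, hi⟩).2 hiM)
      have h2 : W.valuation (j x) ≤ 1 := (W.valuation_le_one_iff _).2 hx
      rw [show θ ((⟨x⁻¹, hi⟩ : V) ⊗ₜ[R] (1 : S)) = j x⁻¹ from (hj ⟨x⁻¹, hi⟩).symm, map_inv₀, map_inv₀,
        inv_lt_one₀ (lt_of_le_of_ne zero_le' ((Valuation.ne_zero_iff _).2 ((map_ne_zero j).2 hx0)).symm)] at h1
      exact absurd h2 (not_le.2 h1)
    · rw [ValuationSubring.mem_comap, show x = ((⟨x, hx⟩ : V) : L) from rfl, hj]
      exact hmem _

end Groth.Agent.Lib.Abhyankar.BaseChange
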