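import Groth.Agent.Lib.Abhyankar.Val
import Groth.Agent.H48.Tame
import Groth.Agent.Lib.Purity.Etale
import Groth.Agent.Lib.WildCoprod.Basic

/-!
Abhyankar's lemma at all height-one primes, and purity.
-/

set_option autoImplicit false
universe u

open IsLocalRing EtRam

namespace Groth.Agent.Lib.Abhyankar.Basic

open Groth.Agent.H48

variable {A : Type u} [CommRing A] [IsDomain A] [IsNoetherianRing A] [IsIntegrallyClosed A]
  {F : Type u} [Field F] [Algebra A F] [IsFractionRing A F]
  {Ω : Type u} [Field Ω] [Algebra F Ω] [Algebra A Ω] [IsScalarTower A F Ω]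
  {r : ℕ} (f : Fin r → A)

/-- A prime of height at most one containing a prime element is generated by it. -/
theorem eq_span_of_mem {x : A} (hx : x ≠ 0) [(Ideal.span {x}).IsPrime] {P : Ideal A} [P.IsPrime]
    (h : x ∈ P) (h1 : P.height ≤ 1) : P = Ideal.span {x} := by
  by_contra hne
  have hlt : Ideal.span {x} < P :=
    lt_of_le_of_ne ((Ideal.span_singleton_le_iff_mem _).2 h) (Ne.symm hne)
  have h2 := lt_of_lt_of_le (Ideal.height_strict_mono_of_isPrime hlt) h1
  rw [ENat.lt_one_iff_eq_zero, Ideal.height_eq_zero_iff_eq_bot, Ideal.span_singleton_eq_bot] at h2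
  exact hx h2

/-- Ramification indices of `L` at height one primes divide the prescribed orders. -/
def Good (n : Fin r → ℕ) (L : IntermediateField F Ω) : Prop :=
  ∀ (P : Ideal A), P.IsPrime → P ≠ ⊥ → P.height ≤ 1 → ∀ W : ValuationSubring Ω, Val.Centred A W P →
    Abhy.S W (bot_le : ⊥ ≤ L) ∧
    (Abhy.e W (bot_le : ⊥ ≤ L) : ResidueField (Abhy.V W (⊥ : IntermediateField F Ω))) ≠ 0 ∧
    ∀ m : ℕ, (∀ i, f i ∈ P → n i ∣ m) → Abhy.e W (bot_le : ⊥ ≤ L) ∣ m

/-- A root of a generator of the centre forces ramification. -/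
theorem dvd_e {W : ValuationSubring Ω} {P : Ideal A} [P.IsPrime] (hW : Val.Centred A W P)
    (h0 : P ≠ ⊥) (h1 : P.height ≤ 1) {x : A} (hP : P = Ideal.span {x}) (E : IntermediateField F Ω)
    [FiniteDimensional F E] {z : Ω} (hzE : z ∈ E) {n : ℕ} (hn : 0 < n)
    (hz : z ^ n = algebraMap A Ω x) : n ∣ Abhy.e W (bot_le : ⊥ ≤ E) := by
  obtain ⟨R, _, _, _, _, _, j, hj, hjm, hjs, hdom⟩ := Val.exists_dominates (F := F) hW h0 h1
  have hπ : Irreducible (j x) := by
    rw [IsDiscreteValuationRing.irreducible_iff_uniformizer]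
    refine le_antisymm (fun s hs => ?_)
      ((Ideal.span_singleton_le_iff_mem _).2 ((hjm x).2 (hP ▸ Ideal.mem_span_singleton_self x)))
    obtain ⟨a, d, hd, had⟩ := hjs s
    have ha : a ∈ P := (hjm a).1 (had ▸ Ideal.mul_mem_right _ _ hs)
    rw [hP, Ideal.mem_span_singleton] at ha
    obtain ⟨b, rfl⟩ := ha
    have hdu : IsUnit (j d) := by
      by_contra h
      exact hd ((hjm d).1 ((mem_maximalIdeal _).2 h))
    rw [Ideal.mem_span_singleton, ← hdu.dvd_mul_right, had, map_mul]
    exact dvd_mul_right _ _
  have hz' : z ^ n = algebraMap F Ω (algebraMap R F (j x)) := by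
    rw [hz, hj, ← IsScalarTower.algebraMap_apply A F Ω]
  have := Abhy.isDVR hdom E
  let _ : Algebra R (Abhy.V W E) := (Abhy.base hdom E).toAlgebra
  have hloc : IsLocalHom (algebraMap R (Abhy.V W E)) :=
    DomVal.isLocalHom_of_dominates (Abhy.dominates hdom _)
  have hinj : Function.Injective (algebraMap R (Abhy.V W E)) := fun a b h =>
    IsFractionRing.injective R F ((algebraMap F _).injective (congrArg Subtype.val h))
  let t : Abhy.V W E := ⟨⟨z, hzE⟩, Tame.mem_of_pow hdom hn hz'⟩
  have htn : t ^ n = algebraMap R (Abhy.V W E) (j x) := Subtype.ext (Subtype.ext (by push_cast; exact hz'))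
  obtain ⟨τ, hτ⟩ := IsDiscreteValuationRing.exists_irreducible (Abhy.V W E)
  obtain ⟨-, v, hv⟩ := DVRExt.exists_unit_mul_pow hinj hπ hτ
  obtain ⟨hbe, -, -, -⟩ := Abhy.base_iff hdom E
  have ht0 : t ≠ 0 := fun h => (map_ne_zero_iff _ hinj).2 hπ.ne_zero (by rw [← htn, h, zero_pow hn.ne'])
  obtain ⟨m, w, hm⟩ := IsDiscreteValuationRing.eq_unit_mul_pow_irreducible ht0 hτ
  rw [← hbe]
  refine ⟨m, ?_⟩
  rw [mul_comm]
  refine (IsDiscreteValuationRing.unit_mul_pow_congr_pow hτ hτ (w ^ n) v _ _ ?_).symm
  rw [← hv, ← htn, hm, mul_pow, ← pow_mul, Units.val_pow_eq_pow_val]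

variable [∀ i, (Ideal.span {f i}).IsPrime]

/-- Adjoining the roots kills the ramification. -/
theorem unramifiedAt_sup (hf0 : ∀ i, f i ≠ 0) (n : Fin r → ℕ) (hn : ∀ i, 0 < n i)
    (L E : IntermediateField F Ω) [FiniteDimensional F L] [FiniteDimensional F E]
    [Algebra.IsSeparable F (L ⊔ E : IntermediateField F Ω)] (hL : Good f n L)
    (q : Ideal (integralClosure A (L ⊔ E : IntermediateField F Ω))) [q.IsPrime]
    (hP0 : q.comap (algebraMap A _) ≠ ⊥) (hP1 : (q.comap (algebraMap A _)).height ≤ 1)
    (hroots : ∀ i, f i ∈ q.comap (algebraMap A _) → ∃ z ∈ E, z ^ n i = algebraMap A Ω (f i)) :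
    letI := (Val.inc (A := A) (le_sup_right : E ≤ L ⊔ E)).toAlgebra
    Algebra.IsUnramifiedAt (integralClosure A E) q := by
  refine Val.isUnramifiedAt (le_sup_right : E ≤ L ⊔ E) q hP0 hP1 fun W hW => ?_
  obtain ⟨hS, he, hdvd⟩ := hL _ inferInstance hP0 hP1 W hW
  obtain ⟨R, _, _, _, _, _, j, -, -, -, hdom⟩ := Val.exists_dominates (F := F) hW hP0 hP1
  refine Abhy.abhyankar hdom (bot_le : ⊥ ≤ L) (bot_le : ⊥ ≤ E) hS he (hdvd _ fun i hi => ?_)
  obtain ⟨z, hzE, hz⟩ := hroots i hi
  exact dvd_e hW hP0 hP1 (eq_span_of_mem (hf0 i) hi hP1) E hzE (hn i) hz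

/-- The unramified locus contains the generic point. -/
theorem unramifiedAt_bot {E G : IntermediateField F Ω} (h : E ≤ G) [FiniteDimensional F G]
    [Algebra.IsSeparable F G] (q : Ideal (integralClosure A G)) [q.IsPrime]
    (hP0 : q.comap (algebraMap A _) = ⊥) :
    letI := (Val.inc (A := A) h).toAlgebra
    Algebra.IsUnramifiedAt (integralClosure A E) q := by
  let _ := (Val.inc (A := A) h).toAlgebra
  have : FiniteDimensional F E := Abhy.fin_le h
  have : IsFractionRing (integralClosure A G) G := integralClosure.isFractionRing_of_finite_extension F G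
  have : IsFractionRing (integralClosure A E) E := integralClosure.isFractionRing_of_finite_extension F E
  have : Algebra.IsIntegral A (integralClosure A G) := ⟨fun x => (isIntegral_algHom_iff (integralClosure A G).val Subtype.val_injective).1 x.2⟩
  obtain rfl : q = ⊥ := Ideal.eq_bot_of_comap_eq_bot hP0
  let _ : Algebra E G := (IntermediateField.inclusion h).toRingHom.toAlgebra
  have : IsScalarTower (integralClosure A E) (integralClosure A G) G := IsScalarTower.of_algebraMap_eq fun _ => rfl
  have : IsScalarTower F E G := IsScalarTower.of_algebraMap_eq fun _ => rfl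
  have : FiniteDimensional E G := Module.Finite.of_restrictScalars_finite F E G
  have : Algebra.IsSeparable E G := Algebra.isSeparable_tower_top_of_isSeparable F E G
  have : Algebra.FormallyUnramified (integralClosure A E) E :=
    Algebra.FormallyUnramified.of_isLocalization (nonZeroDivisors (integralClosure A E))
  have : Algebra.FormallyUnramified E G := Algebra.FormallyUnramified.of_isSeparable E G
  have : Algebra.FormallyUnramified (integralClosure A E) G := Algebra.FormallyUnramified.comp _ E _
  have hbot : (⊥ : Ideal (integralClosure A G)).primeCompl = nonZeroDivisors (integralClosure A G) := by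
    ext x; simp [Ideal.mem_primeCompl_iff, mem_nonZeroDivisors_iff_ne_zero]
  have hl : IsLocalization (⊥ : Ideal (integralClosure A G)).primeCompl G := by
    rw [hbot]; exact ‹IsFractionRing (integralClosure A G) G›
  exact Algebra.FormallyUnramified.of_equiv
    ((IsLocalization.algEquiv (⊥ : Ideal (integralClosure A G)).primeCompl G (Localization.AtPrime ⊥)).restrictScalars _)

omit [IsNoetherianRing A] [IsIntegrallyClosed A] in
/-- Purity: adjoining `L` to a regular Kummer extension gives an étale extension. -/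
theorem etale_sup [IsRegularLocalRing A] [IsIntegrallyClosed A] (hf0 : ∀ i, f i ≠ 0) (n : Fin r → ℕ)
    (hn : ∀ i, 0 < n i) (L E : IntermediateField F Ω) [FiniteDimensional F L] [FiniteDimensional F E]
    [Algebra.IsSeparable F (L ⊔ E : IntermediateField F Ω)] (hL : Good f n L)
    [IsRegularLocalRing (integralClosure A E)]
    (hroots : ∀ i, ∃ z ∈ E, z ^ n i = algebraMap A Ω (f i)) :
    letI := (Val.inc (A := A) (le_sup_right : E ≤ L ⊔ E)).toAlgebra
    Algebra.Etale (integralClosure A E) (integralClosure A (L ⊔ E : IntermediateField F Ω)) := by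
  have : FiniteDimensional F (L ⊔ E : IntermediateField F Ω) := IntermediateField.finiteDimensional_sup L E
  let G : IntermediateField F Ω := L ⊔ E
  let h : E ≤ G := le_sup_right
  let _ := (Val.inc (A := A) h).toAlgebra
  have : IsScalarTower A (integralClosure A E) (integralClosure A G) :=
    IsScalarTower.of_algebraMap_eq fun a => ((Val.inc (A := A) h).commutes a).symm
  have : Algebra.IsSeparable F E := Algebra.IsSeparable.of_algHom F G (IntermediateField.inclusion h)
  have : Module.Finite A (integralClosure A E) := IsIntegralClosure.finite A F E _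
  have : Module.Finite A (integralClosure A G) := IsIntegralClosure.finite A F G _
  have : Module.Finite (integralClosure A E) (integralClosure A G) :=
    Module.Finite.of_restrictScalars_finite A _ _
  have : IsIntegrallyClosed (integralClosure A G) := integralClosure.isIntegrallyClosedOfFiniteExtension F
  have : FaithfulSMul A (integralClosure A E) :=
    (faithfulSMul_iff_algebraMap_injective _ _).2 (Val.injective_integralClosure E)
  have : Module.Flat A (integralClosure A E) := Groth.Agent.Lib.WildCoprod.Basic.flat_of_regular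
  have : Algebra.IsIntegral A (integralClosure A E) := Algebra.IsIntegral.of_finite A _
  refine Groth.Agent.Lib.Purity.Etale.etale_of_unramified ?_ fun p hp hp1 q hq => ?_
  · exact fun a b hab => Subtype.ext ((IntermediateField.inclusion h).toRingHom.injective
      (congrArg Subtype.val hab))
  have hqP : q.asIdeal.comap (algebraMap A (integralClosure A G)) = p.under A := by
    rw [Ideal.under, ← hq, Ideal.comap_comap, ← IsScalarTower.algebraMap_eq]
  by_cases h0 : q.asIdeal.comap (algebraMap A (integralClosure A G)) = ⊥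
  · exact unramifiedAt_bot h q.asIdeal h0
  refine unramifiedAt_sup f hf0 n hn L E hL q.asIdeal h0 ?_ fun i _ => hroots i
  rw [hqP, ← Groth.Agent.Lib.Dim.Integral.height_eq_height_under]
  exact hp1

end Groth.Agent.Lib.Abhyankar.Basic
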