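import Groth.Agent.Lib.Abhyankar.Basic
import Groth.Agent.H48.RamBound
import Groth.Agent.H48.EtUnram
import Groth.Prelude.Def_SGA1
import Mathlib.RingTheory.Etale.Basic

/-!
Ramification orders of a tame cover of the complement of a normal crossings divisor.
-/

set_option autoImplicit false
universe u

open IsLocalRing EtRam
open scoped TensorProduct

namespace Groth.Agent.Lib.Abhyankar.Tame

open Groth.Agent.H48

section Local

variable {F : Type u} [Field F] {Ω : Type u} [Field Ω] [Algebra F Ω] {R : Type u} [CommRing R]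
  [IsDomain R] [IsDiscreteValuationRing R] [Algebra R F] [IsFractionRing R F]
  {W : ValuationSubring Ω} (hdom : Dominates R ((algebraMap F Ω).comp (algebraMap R F)) W)
  {L₀ : Type u} [Field L₀] [Algebra F L₀] [FiniteDimensional F L₀] (ι : L₀ →ₐ[F] Ω)

include hdom

theorem dominates_comap :
    Dominates R ((algebraMap F L₀).comp (algebraMap R F)) (W.comap ι.toRingHom) := by
  rw [DomVal.dominates_comap_iff, show ι.toRingHom.comp ((algebraMap F L₀).comp (algebraMap R F)) =
    (algebraMap F Ω).comp (algebraMap R F) from RingHom.ext fun a => ι.commutes _]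
  exact hdom

theorem tame_at (ht : IsTamelyRamified R ((algebraMap F L₀).comp (algebraMap R F))) (e₀ : ℕ)
    (he₀ : ∀ m : ℕ, m ≤ Module.finrank F L₀ → (m : ResidueField R) ≠ 0 → m ∣ e₀) :
    Abhy.S W (bot_le : ⊥ ≤ ι.fieldRange) ∧
    (Abhy.e W (bot_le : ⊥ ≤ ι.fieldRange) : ResidueField (Abhy.V W (⊥ : IntermediateField F Ω))) ≠ 0 ∧
    Abhy.e W (bot_le : ⊥ ≤ ι.fieldRange) ∣ e₀ := by
  have hV := dominates_comap hdom ι
  have := FSExt.isDVR _ hV
  let _ : Algebra R (W.comap ι.toRingHom) := (RingHom.codRestrict _ (W.comap ι.toRingHom) hV.1).toAlgebra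
  have hloc : IsLocalHom (algebraMap R (W.comap ι.toRingHom)) := DomVal.isLocalHom_of_dominates hV
  obtain ⟨hs, hp⟩ := @ht _ hV hloc
  obtain ⟨hfe, hfs⟩ := Tame.field_iff hdom ι hV
  have hb := FSExt.ramificationIdx_le_finrank (B := R) (L := F) (W.comap ι.toRingHom) hV
  obtain ⟨π, hπ⟩ := IsDiscreteValuationRing.exists_irreducible R
  obtain ⟨π', hπ'⟩ := IsDiscreteValuationRing.exists_irreducible (W.comap ι.toRingHom)
  have he0 := (DVRExt.exists_unit_mul_pow (A := R) (B := W.comap ι.toRingHom)
    (fun a b h => IsFractionRing.injective R F ((algebraMap F L₀).injective (congrArg Subtype.val h))) hπ hπ').1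
  have hne : (Ideal.ramificationIdx' (maximalIdeal R) (maximalIdeal (W.comap ι.toRingHom)) : ResidueField R) ≠ 0 := by
    intro h
    obtain ⟨p, hpc⟩ := CharP.exists (ResidueField R)
    rcases CharP.char_is_prime_or_zero (ResidueField R) p with hpp | rfl
    · exact hp p hpp hpc ((CharP.cast_eq_zero_iff (ResidueField R) p _).1 h)
    · have := CharP.charP_to_charZero (ResidueField R)
      exact Nat.cast_ne_zero.2 he0 h
  rw [hfe] at hne hb
  exact ⟨hfs.1 hs, Tame.natCast_bot hdom hne, he₀ _ hb hne⟩

theorem etale_at {E : Type u} [CommRing E] [Algebra R E] [Algebra.Etale R E] [Module.Finite R E]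
    (ψ : E →+* L₀) (hψ : ∀ a, ψ (algebraMap R E a) = algebraMap F L₀ (algebraMap R F a))
    (hgen : Subfield.closure (Set.range ψ) = ⊤) :
    Abhy.S W (bot_le : ⊥ ≤ ι.fieldRange) ∧ Abhy.e W (bot_le : ⊥ ≤ ι.fieldRange) = 1 := by
  have hV := dominates_comap hdom ι
  have := FSExt.isDVR _ hV
  let _ : Algebra R (W.comap ι.toRingHom) := (RingHom.codRestrict _ (W.comap ι.toRingHom) hV.1).toAlgebra
  have hloc : IsLocalHom (algebraMap R (W.comap ι.toRingHom)) := DomVal.isLocalHom_of_dominates hV
  obtain ⟨hw, hs⟩ := EtUnram.unramified_of_generated (K := F) ψ hψ hgen _ hV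
  obtain ⟨hfe, hfs⟩ := Tame.field_iff hdom ι hV
  refine ⟨hfs.1 hs, ?_⟩
  rw [← hfe]
  exact (DomVal.isWeaklyUnramified_iff (fun a b h =>
    IsFractionRing.injective R F ((algebraMap F L₀).injective (congrArg Subtype.val h)))).1 hw

end Local

variable {A : Type u} [CommRing A] [IsDomain A] [IsNoetherianRing A] [IsIntegrallyClosed A]
  {F : Type u} [Field F] [Algebra A F] [IsFractionRing A F]
  {Ω : Type u} [Field Ω] [Algebra F Ω] [Algebra A Ω] [IsScalarTower A F Ω]

theorem dominates_localization {W : ValuationSubring Ω} {P : Ideal A} [P.IsPrime]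
    (hW : Val.Centred A W P) (R : Type u) [CommRing R] [IsLocalRing R] [Algebra A R]
    [IsLocalization.AtPrime R P] [Algebra R F] [IsScalarTower A R F] :
    Dominates R ((algebraMap F Ω).comp (algebraMap R F)) W := by
  have hA : ∀ a, algebraMap F Ω (algebraMap R F (algebraMap A R a)) = algebraMap A Ω a := fun a => by
    rw [← IsScalarTower.algebraMap_apply A R F, ← IsScalarTower.algebraMap_apply A F Ω]
  have hval : ∀ (a : A) (d : P.primeCompl),
      W.valuation (algebraMap F Ω (algebraMap R F (IsLocalization.mk' R a d))) =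
        W.valuation (algebraMap A Ω a) := fun a d => by
    have hd : W.valuation (algebraMap A Ω (d : A)) = 1 :=
      le_antisymm ((W.valuation_le_one_iff _).2 (hW.1 _)) (not_lt.1 fun h => d.2 ((hW.2 _).1 h))
    rw [← hA a, ← IsLocalization.mk'_spec R a d, map_mul, map_mul, map_mul, hA, hd, mul_one]
  refine ⟨fun r => ?_, fun r hr => ?_⟩
  · obtain ⟨⟨a, d⟩, rfl⟩ := IsLocalization.mk'_surjective P.primeCompl r
    refine (W.valuation_le_one_iff _).1 ?_
    rw [RingHom.comp_apply, hval]
    exact (W.valuation_le_one_iff _).2 (hW.1 _)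
  · obtain ⟨⟨a, d⟩, rfl⟩ := IsLocalization.mk'_surjective P.primeCompl r
    rw [RingHom.comp_apply, hval]
    exact (hW.2 a).2 ((IsLocalization.AtPrime.mk'_mem_maximal_iff R P a d).1 hr)

/-- The orders attached to a tame cover. -/
theorem exists_good {r : ℕ} (f : Fin r → A) [∀ i, (Ideal.span {f i}).IsPrime] (hf0 : ∀ i, f i ≠ 0)
    (B : Type u) [CommRing B] [Algebra A B] [Algebra (Localization.Away (∏ i, f i)) B]
    [IsScalarTower A (Localization.Away (∏ i, f i)) B]
    [Algebra.Etale (Localization.Away (∏ i, f i)) B] [Module.Finite (Localization.Away (∏ i, f i)) B]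
    (htame : SGA1.IsTameAlong f (algebraMap A B)) (q : Ideal B) [q.IsPrime]
    (hq : Ideal.comap (algebraMap A B) q = ⊥)
    [Algebra F q.ResidueField] [IsScalarTower A F q.ResidueField] [FiniteDimensional F q.ResidueField]
    (ι : q.ResidueField →ₐ[F] Ω) :
    ∃ n : Fin r → ℕ, (∀ i, 1 ≤ n i ∧ (n i : A) ∉ Ideal.span {f i}) ∧ Basic.Good f n ι.fieldRange := by
  classical
  have hspan : ∀ i, Ideal.span {f i} ≠ ⊥ := fun i => by simpa using hf0 i
  choose e₀ he₀pos he₀ne he₀dvd using fun i : Fin r =>
    Tame.exists_order (Localization.AtPrime (Ideal.span {f i})) (Module.finrank F q.ResidueField)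
  refine ⟨e₀, fun i => ⟨he₀pos i, fun h => he₀ne i ?_⟩, ?_⟩
  · rw [← map_natCast (residue _), residue_eq_zero_iff,
      ← map_natCast (algebraMap A (Localization.AtPrime (Ideal.span {f i})))]
    exact (IsLocalization.AtPrime.to_map_mem_maximal_iff _ (Ideal.span {f i}) _).2 h
  intro P hP h0 h1 W hW
  have := Val.isDVR_atPrime A P h0 h1
  let R := Localization.AtPrime P
  let _ : Algebra R F := (IsLocalization.lift (M := P.primeCompl) (g := algebraMap A F) fun y =>
    (IsFractionRing.to_map_ne_zero_of_mem_nonZeroDivisors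
      (Ideal.primeCompl_le_nonZeroDivisors P y.2) : algebraMap A F y ≠ 0).isUnit).toAlgebra
  have : IsScalarTower A R F := IsScalarTower.of_algebraMap_eq fun a => (IsLocalization.lift_eq _ a).symm
  have : IsFractionRing R F :=
    IsFractionRing.isFractionRing_of_isDomain_of_isLocalization P.primeCompl _ _
  have hdom := dominates_localization (F := F) hW R
  by_cases hex : ∃ i, f i ∈ P
  · obtain ⟨i, hi⟩ := hex
    obtain rfl := Basic.eq_span_of_mem (hf0 i) hi h1
    have ht : IsTamelyRamified R ((algebraMap F q.ResidueField).comp (algebraMap R F)) := by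
      have := htame i q hq
      convert this using 1
      refine IsLocalization.ringHom_ext (Ideal.span {f i}).primeCompl (RingHom.ext fun a => ?_)
      simp only [RingHom.comp_apply, SGA1.genericResidueMap, IsLocalization.lift_eq]
      rw [← IsScalarTower.algebraMap_apply A R F, ← IsScalarTower.algebraMap_apply A F q.ResidueField,
        IsScalarTower.algebraMap_apply A B q.ResidueField]
    obtain ⟨h1', h2', h3'⟩ := tame_at hdom ι ht (e₀ i) (he₀dvd i)
    exact ⟨h1', h2', fun m hm => h3'.trans (hm i hi)⟩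
  · push Not at hex
    have hu : IsUnit (algebraMap A R (∏ i, f i)) :=
      IsLocalization.map_units R (⟨∏ i, f i, fun h => (Ideal.IsPrime.prod_mem_iff.1 h).elim fun i hi => hex i hi.2⟩ : P.primeCompl)
    let Af := Localization.Away (∏ i, f i)
    let _ : Algebra Af R := (IsLocalization.Away.lift (S := Af) (∏ i, f i) hu).toAlgebra
    have : IsScalarTower A Af R := IsScalarTower.of_algebraMap_eq fun a =>
      (IsLocalization.Away.lift_eq (S := Af) (∏ i, f i) hu a).symm
    let gR : R →+* q.ResidueField := (algebraMap F q.ResidueField).comp (algebraMap R F)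
    have hgR : ∀ x : Af, gR (algebraMap Af R x) = algebraMap Af q.ResidueField x := fun x => by
      refine RingHom.congr_fun (IsLocalization.ringHom_ext (Submonoid.powers (∏ i, f i))
        (j := gR.comp (algebraMap Af R)) (k := algebraMap Af q.ResidueField) (RingHom.ext fun a => ?_)) x
      show algebraMap F _ (algebraMap R F (algebraMap Af R (algebraMap A Af a))) = _
      rw [← IsScalarTower.algebraMap_apply A Af R, ← IsScalarTower.algebraMap_apply A R F,
        ← IsScalarTower.algebraMap_apply A F q.ResidueField, IsScalarTower.algebraMap_apply A B q.ResidueField,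
        IsScalarTower.algebraMap_apply A Af B]
      rfl
    let gR' : R →ₐ[Af] q.ResidueField := { gR with commutes' := hgR }
    let ψ : R ⊗[Af] B →ₐ[Af] q.ResidueField :=
      Algebra.TensorProduct.lift gR' (IsScalarTower.toAlgHom Af B _) fun _ _ => Commute.all _ _
    have hgen : Subfield.closure (Set.range ψ.toRingHom) = ⊤ := by
      refine eq_top_iff.2 fun y _ => ?_
      obtain ⟨a, b, -, hab⟩ := IsFractionRing.div_surjective (A := B ⧸ q) y
      obtain ⟨a, rfl⟩ := Ideal.Quotient.mk_surjective a
      obtain ⟨b, rfl⟩ := Ideal.Quotient.mk_surjective b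
      rw [← hab]
      refine div_mem (Subfield.subset_closure ⟨1 ⊗ₜ a, ?_⟩) (Subfield.subset_closure ⟨1 ⊗ₜ b, ?_⟩)
      all_goals
        show Algebra.TensorProduct.lift gR' _ _ _ = _
        rw [Algebra.TensorProduct.lift_tmul, map_one, one_mul]
        rfl
    obtain ⟨hS, he⟩ := etale_at hdom ι (E := R ⊗[Af] B) ψ.toRingHom (fun a => by
      show Algebra.TensorProduct.lift gR' _ _ (a ⊗ₜ 1) = _
      rw [Algebra.TensorProduct.lift_tmul, map_one, mul_one]
      rfl) hgen
    refine ⟨hS, by rw [he, Nat.cast_one]; exact one_ne_zero, fun m _ => he ▸ one_dvd m⟩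

end Groth.Agent.Lib.Abhyankar.Tame
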