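import Groth.Agent.Lib.Abhyankar.Strict
import Groth.Agent.Lib.Abhyankar.Tame
import Groth.Agent.Lib.Purity.Local
import Mathlib.RingTheory.Etale.Field
import Mathlib.RingTheory.LocalProperties.Reduced

/-!
Tame covers over a strictly henselian regular local ring are dominated by Kummer covers.
-/

set_option autoImplicit false
universe u

open IsLocalRing
open scoped TensorProduct

namespace Groth.Agent.Lib.Abhyankar.Cover

/-- A connected Noetherian ring whose local rings are domains is a domain. -/
theorem isDomain_of_connected (B : Type u) [CommRing B] [IsNoetherianRing B]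
    [ConnectedSpace (PrimeSpectrum B)]
    (h : ∀ (m : Ideal B) [m.IsPrime], IsDomain (Localization.AtPrime m)) : IsDomain B := by
  have : Nontrivial B := PrimeSpectrum.nonempty_iff_nontrivial.1 inferInstance
  have : IsReduced B := isReduced_ofLocalizationMaximal B fun m hm =>
    have := hm.isPrime
    have := h m; inferInstance
  have huniq : ∀ (m p p' : Ideal B), m.IsPrime → p ∈ minimalPrimes B → p' ∈ minimalPrimes B →
      p ≤ m → p' ≤ m → p = p' := by
    intro m p p' hm hp hp' hpm hp'm
    have := h m
    have key : ∀ s ∈ minimalPrimes B, s ≤ m → s = RingHom.ker (algebraMap B (Localization.AtPrime m)) := by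
      intro s hs hsm
      have : s.IsPrime := hs.1.1
      have hle : RingHom.ker (algebraMap B (Localization.AtPrime m)) ≤ s := by
        intro x hx
        obtain ⟨c, hc⟩ := (IsLocalization.map_eq_zero_iff m.primeCompl _ x).1 hx
        exact (this.mem_or_mem (hc ▸ s.zero_mem : (c : B) * x ∈ s)).resolve_left fun h' => c.2 (hsm h')
      exact le_antisymm (hs.2 ⟨RingHom.ker_isPrime _, bot_le⟩ hle) hle
    rw [key p hp hpm, key p' hp' hp'm]
  obtain ⟨p, hp⟩ : (minimalPrimes B).Nonempty := Set.nonempty_coe_sort.1 (Ideal.nonempty_minimalPrimes (by exact bot_ne_top))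
  have hfin := minimalPrimes.finite_of_isNoetherianRing B
  have hall : ∀ x : PrimeSpectrum B, x ∈ PrimeSpectrum.zeroLocus (p : Set B) := by
    let Z : Set (PrimeSpectrum B) := PrimeSpectrum.zeroLocus (p : Set B)
    let Z' : Set (PrimeSpectrum B) := ⋃ s ∈ minimalPrimes B \ {p}, PrimeSpectrum.zeroLocus (s : Set B)
    have hZ' : Zᶜ = Z' := by
      ext x
      simp only [Z, Z', Set.mem_compl_iff, Set.mem_iUnion, Set.mem_diff, Set.mem_singleton_iff, exists_prop,
        PrimeSpectrum.mem_zeroLocus, SetLike.coe_subset_coe]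
      constructor
      · intro hx
        obtain ⟨s, hs, hsx⟩ := Ideal.exists_minimalPrimes_le (I := (⊥ : Ideal B)) (J := x.asIdeal) bot_le
        exact ⟨s, ⟨hs, fun h => hx (h ▸ hsx)⟩, hsx⟩
      · rintro ⟨s, ⟨hs, hsp⟩, hsx⟩ hx
        exact hsp (huniq _ s p x.2 hs hp hsx hx)
    have hclopen : IsClopen Z := ⟨PrimeSpectrum.isClosed_zeroLocus _, isClosed_compl_iff.1 (hZ' ▸
      (hfin.subset Set.diff_subset).isClosed_biUnion fun s _ => PrimeSpectrum.isClosed_zeroLocus _)⟩
    have hp' : p.IsPrime := hp.1.1
    have := hclopen.eq_univ ⟨⟨p, hp'⟩, fun x hx => hx⟩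
    exact fun x => (this ▸ Set.mem_univ x : x ∈ Z)
  have hp' : p.IsPrime := hp.1.1
  have : p = ⊥ := by
    rw [eq_bot_iff]
    intro x hx
    exact (nilpotent_iff_mem_prime.2 fun s hs => hall ⟨s, hs⟩ hx).eq_zero
  have : (⊥ : Ideal B).IsPrime := this ▸ hp'
  exact IsDomain.of_bot_isPrime B

variable {A : Type u} [CommRing A] [IsDomain A] [IsRegularLocalRing A] [IsIntegrallyClosed A]
  {r : ℕ} (f : Fin r → A) (hm : ∀ i, f i ∈ maximalIdeal A)
  (hf : LinearIndependent (ResidueField A) (fun i => (maximalIdeal A).toCotangent ⟨f i, hm i⟩))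
  [∀ i, (Ideal.span {f i}).IsPrime]

include hm hf

/-- A connected tame cover maps injectively into a Kummer extension. -/
theorem exists_algHom [HenselianLocalRing A] [IsSepClosed (ResidueField A)]
    (B : Type u) [CommRing B] [Algebra A B] [Algebra (Localization.Away (∏ i, f i)) B]
    [IsScalarTower A (Localization.Away (∏ i, f i)) B]
    [Algebra.Etale (Localization.Away (∏ i, f i)) B] [Module.Finite (Localization.Away (∏ i, f i)) B]
    [ConnectedSpace (PrimeSpectrum B)] (htame : SGA1.IsTameAlong f (algebraMap A B)) :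
    ∃ n : Fin r → ℕ, (∀ i, 1 ≤ n i) ∧ (∀ i, IsUnit ((n i : ℕ) : ResidueField A)) ∧
      ∃ χ : B →ₐ[A] Localization.Away (algebraMap A (SGA1.kummerAlg A f n) (∏ i, f i)),
        Function.Injective χ := by
  classical
  have hf0 := Strict.ne_zero hm hf
  have hF0 : (∏ i, f i) ≠ 0 := Finset.prod_ne_zero_iff.2 fun i _ => hf0 i
  have hpow : Submonoid.powers (∏ i, f i) ≤ nonZeroDivisors A :=
    powers_le_nonZeroDivisors_of_noZeroDivisors hF0
  let Af := Localization.Away (∏ i, f i)
  have : IsDomain Af := IsLocalization.isDomain_localization hpow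
  have : IsNoetherianRing Af := IsLocalization.isNoetherianRing (Submonoid.powers (∏ i, f i)) Af inferInstance
  have : IsIntegrallyClosed Af := isIntegrallyClosed_of_isLocalization Af _ hpow
  have : IsNoetherianRing B := IsNoetherianRing.of_finite Af B
  have hdom : ∀ (m : Ideal B) [m.IsPrime], IsDomain (Localization.AtPrime m) := by
    intro m _
    let s := m.comap (algebraMap Af B)
    have : m.LiesOver s := ⟨rfl⟩
    exact (Groth.Agent.Lib.Purity.Local.normal_of_etale Af B s m
      ⟨IsLocalization.isDomain_localization (Ideal.primeCompl_le_nonZeroDivisors s),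
        isIntegrallyClosed_of_isLocalization _ s.primeCompl (Ideal.primeCompl_le_nonZeroDivisors s)⟩).1
  have : IsDomain B := isDomain_of_connected B hdom
  have hAfB : Function.Injective (algebraMap Af B) := by
    rw [injective_iff_map_eq_zero]
    intro a ha
    by_contra hne
    exact one_ne_zero (α := B) ((Module.Flat.isSMulRegular_of_isRegular (IsRegular.of_ne_zero hne)).eq_iff.1
      (show a • (1 : B) = a • (0 : B) by rw [Algebra.smul_def, ha, zero_mul, smul_zero]))
  have hAB : Function.Injective (algebraMap A B) := by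
    rw [IsScalarTower.algebraMap_eq A Af B]
    exact hAfB.comp (IsLocalization.injective Af hpow)
  let q : Ideal B := ⊥
  have hqp : q.IsPrime := Ideal.isPrime_bot
  have hq : Ideal.comap (algebraMap A B) q = ⊥ := Ideal.comap_bot_of_injective _ hAB
  let L₀ := q.ResidueField
  have hBL : Function.Injective (algebraMap B L₀) := by
    rw [injective_iff_map_eq_zero]
    exact fun x hx => Ideal.algebraMap_residueField_eq_zero.1 hx
  let F := FractionRing A
  have hAL : Function.Injective (algebraMap A L₀) := by
    rw [IsScalarTower.algebraMap_eq A B L₀]; exact hBL.comp hAB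
  let _ : Algebra F L₀ := (IsFractionRing.lift hAL).toAlgebra
  have : IsScalarTower A F L₀ := IsScalarTower.of_algebraMap_eq fun a =>
    (IsFractionRing.lift_algebraMap hAL a).symm
  have hFu : IsUnit (algebraMap A F (∏ i, f i)) :=
    isUnit_iff_ne_zero.2 ((map_ne_zero_iff _ (IsFractionRing.injective A F)).2 hF0)
  let _ : Algebra Af F := (IsLocalization.Away.lift (S := Af) (∏ i, f i) hFu).toAlgebra
  have : IsScalarTower A Af F := IsScalarTower.of_algebraMap_eq fun a =>
    (IsLocalization.Away.lift_eq (S := Af) (∏ i, f i) hFu a).symm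
  have : IsScalarTower Af F L₀ := IsScalarTower.of_algebraMap_eq fun x => by
    refine RingHom.congr_fun (IsLocalization.ringHom_ext (Submonoid.powers (∏ i, f i))
      (j := algebraMap Af L₀) (k := (algebraMap F L₀).comp (algebraMap Af F)) (RingHom.ext fun a => ?_)) x
    show algebraMap Af L₀ (algebraMap A Af a) = algebraMap F L₀ (algebraMap Af F (algebraMap A Af a))
    rw [← IsScalarTower.algebraMap_apply A Af F, ← IsScalarTower.algebraMap_apply A F L₀,
      ← IsScalarTower.algebraMap_apply A Af L₀]
  let θ : F ⊗[Af] B →ₐ[F] L₀ :=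
    Algebra.TensorProduct.lift (Algebra.ofId F L₀) (IsScalarTower.toAlgHom Af B L₀) fun _ _ => Commute.all _ _
  have hθ : Function.Surjective θ := by
    have : Module.Finite F θ.range := Module.Finite.of_surjective θ.rangeRestrict.toLinearMap θ.rangeRestrict_surjective
    have hfield : IsField θ.range := isField_of_isIntegral_of_isField' (R := F) (Field.toIsField F)
    intro y
    obtain ⟨a, b, hb, hab⟩ := IsFractionRing.div_surjective (A := B ⧸ q) y
    obtain ⟨a, rfl⟩ := Ideal.Quotient.mk_surjective a
    obtain ⟨b, rfl⟩ := Ideal.Quotient.mk_surjective b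
    have hr : ∀ c, algebraMap B L₀ c ∈ θ.range := fun c => ⟨1 ⊗ₜ c, by
      show Algebra.TensorProduct.lift (Algebra.ofId F L₀) _ _ (1 ⊗ₜ c) = _
      rw [Algebra.TensorProduct.lift_tmul, map_one, one_mul]; rfl⟩
    have hb0 : algebraMap B L₀ b ≠ 0 := fun h =>
      nonZeroDivisors.ne_zero hb (Ideal.Quotient.eq_zero_iff_mem.2 (Ideal.algebraMap_residueField_eq_zero.1 h))
    obtain ⟨c, hc⟩ := hfield.mul_inv_cancel (a := (⟨_, hr b⟩ : θ.range)) fun h => hb0 (congrArg Subtype.val h)
    have hinv : (algebraMap B L₀ b)⁻¹ = (c : L₀) := inv_eq_of_mul_eq_one_right (congrArg Subtype.val hc)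
    show y ∈ θ.range
    rw [← hab, Ideal.algebraMap_quotient_residueField_mk, Ideal.algebraMap_quotient_residueField_mk,
      div_eq_mul_inv, hinv]
    exact mul_mem (hr a) c.2
  have : Module.Finite F L₀ := Module.Finite.of_surjective θ.toLinearMap hθ
  have : Algebra.FormallyUnramified F L₀ := Algebra.FormallyUnramified.of_surjective θ hθ
  have : Algebra.IsSeparable F L₀ := Algebra.FormallyUnramified.isSeparable F L₀
  let Ω := AlgebraicClosure F
  let ι : L₀ →ₐ[F] Ω := IsAlgClosed.lift
  obtain ⟨n₀, hn₀, hgood⟩ := Tame.exists_good (F := F) (Ω := Ω) f hf0 B htame q hq ι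
  have : FiniteDimensional F ι.fieldRange := ι.toLinearMap.finiteDimensional_range
  have : Algebra.IsSeparable F ι.fieldRange :=
    AlgEquiv.Algebra.isSeparable (AlgEquiv.ofInjectiveField ι)
  obtain ⟨n, hn, t, ht, hle⟩ := Strict.exists_le hm hf n₀ (fun i => (hn₀ i).1) (fun i => (hn₀ i).2)
    ι.fieldRange hgood
  have hn1 : ∀ i, 1 ≤ n i := fun i => (hn i).1
  refine ⟨n, hn1, fun i => (hn i).2.1, ?_⟩
  let K := SGA1.kummerAlg A f n
  have : IsRegularLocalRing K := Lib.Kummer.Alg.isRegularLocalRing f n hn1 hm hf
  have : IsDomain K := Groth.Agent.Lib.Regular.Quotient.isDomain K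
  have : IsIntegrallyClosed K := Groth.Agent.Lib.Regular.UFD.isIntegrallyClosed K
  obtain ⟨e, -⟩ := Kummer.exists_equiv (F := F) hm hf hn1 ht
  let M' : IntermediateField F Ω := Kummer.M t
  let jK : K →ₐ[A] M' := (integralClosure A M').val.comp e.toAlgHom
  have hjK : Function.Injective jK := Subtype.val_injective.comp e.injective
  have hgK : algebraMap A K (∏ i, f i) ≠ 0 :=
    (map_ne_zero_iff _ (Lib.Kummer.Alg.algebraMap_injective f n hn1)).2 hF0
  have hpowK : Submonoid.powers (algebraMap A K (∏ i, f i)) ≤ nonZeroDivisors K :=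
    powers_le_nonZeroDivisors_of_noZeroDivisors hgK
  let Kg := Localization.Away (algebraMap A K (∏ i, f i))
  have : IsDomain Kg := IsLocalization.isDomain_localization hpowK
  have : IsIntegrallyClosed Kg := isIntegrallyClosed_of_isLocalization Kg _ hpowK
  let _ : Algebra K M' := jK.toRingHom.toAlgebra
  have : FiniteDimensional F M' := Kummer.finiteDimensional hn1 ht
  have : IsFractionRing (integralClosure A M') M' := integralClosure.isFractionRing_of_finite_extension F M'
  have : FaithfulSMul K M' := (faithfulSMul_iff_algebraMap_injective _ _).2 hjK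
  have : IsFractionRing K M' := IsFractionRing.of_field K M' fun x => by
    obtain ⟨a, b, -, hab⟩ := IsFractionRing.div_surjective (A := integralClosure A M') x
    obtain ⟨a, rfl⟩ := e.surjective a
    obtain ⟨b, rfl⟩ := e.surjective b
    exact ⟨a, b, hab.symm⟩
  have hMu : IsUnit (algebraMap K M' (algebraMap A K (∏ i, f i))) :=
    isUnit_iff_ne_zero.2 ((map_ne_zero_iff _ hjK).2 hgK)
  let _ : Algebra Kg M' := (IsLocalization.Away.lift (S := Kg) (algebraMap A K (∏ i, f i)) hMu).toAlgebra
  have : IsScalarTower K Kg M' := IsScalarTower.of_algebraMap_eq fun a =>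
    (IsLocalization.Away.lift_eq (S := Kg) (algebraMap A K (∏ i, f i)) hMu a).symm
  have : IsFractionRing Kg M' :=
    IsFractionRing.isFractionRing_of_isDomain_of_isLocalization (Submonoid.powers (algebraMap A K (∏ i, f i))) _ _
  let j : Kg →ₐ[A] M' :=
    { algebraMap Kg M' with
      commutes' := fun a => by
        show algebraMap Kg M' (algebraMap A Kg a) = _
        rw [IsScalarTower.algebraMap_apply A K Kg, ← IsScalarTower.algebraMap_apply K Kg M']
        exact jK.commutes a }
  have hj : Function.Injective j := IsFractionRing.injective Kg M'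
  have hBmem : ∀ b : B, ι (algebraMap B L₀ b) ∈ M' := fun b => hle ⟨_, rfl⟩
  let σ : B →ₐ[A] M' :=
    ((ι.restrictScalars A).comp (IsScalarTower.toAlgHom A B L₀)).codRestrict
      ((M').toSubalgebra.restrictScalars A) hBmem
  have hσ : Function.Injective σ := fun a b h => hBL (ι.injective (congrArg Subtype.val h))
  have hAfKg : IsUnit (algebraMap A Kg (∏ i, f i)) := by
    rw [IsScalarTower.algebraMap_apply A K Kg]
    exact IsLocalization.Away.algebraMap_isUnit _
  let u : Af →ₐ[A] Kg :=
    { IsLocalization.Away.lift (S := Af) (∏ i, f i) hAfKg with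
      commutes' := fun a => IsLocalization.Away.lift_eq (S := Af) (∏ i, f i) hAfKg a }
  have hint : ∀ b : B, σ b ∈ Set.range j := fun b => by
    have hmon : IsIntegral Af b := IsIntegral.of_finite Af b
    obtain ⟨p, hp, hpb⟩ := hmon
    have hcomp : σ.toRingHom.comp (algebraMap Af B) = (algebraMap Kg M').comp u.toRingHom := by
      refine IsLocalization.ringHom_ext (Submonoid.powers (∏ i, f i)) (RingHom.ext fun a => ?_)
      show σ (algebraMap Af B (algebraMap A Af a)) = j (u (algebraMap A Af a))
      rw [← IsScalarTower.algebraMap_apply A Af B, σ.commutes, u.commutes, j.commutes]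
    have : IsIntegral Kg (σ b) := by
      refine ⟨p.map u.toRingHom, hp.map _, ?_⟩
      rw [Polynomial.eval₂_map, ← hcomp]
      have := congrArg σ.toRingHom hpb
      rwa [Polynomial.hom_eval₂, map_zero] at this
    exact IsIntegrallyClosed.isIntegral_iff.1 this
  let χ : B →ₐ[A] Kg := (AlgEquiv.ofInjective j hj).symm.toAlgHom.comp (σ.codRestrict j.range hint)
  exact ⟨χ, fun a b h => hσ (congrArg Subtype.val ((AlgEquiv.ofInjective j hj).symm.injective h))⟩

end Groth.Agent.Lib.Abhyankar.Cover
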