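import Groth.Agent.Lib.Abhyankar.Tame

/-!
Ramification orders of a tame field extension.
-/

set_option autoImplicit false
universe u

open IsLocalRing EtRam
open scoped TensorProduct

namespace Groth.Agent.Lib.Abhyankar.Field

open Groth.Agent.H48 Groth.Agent.Lib.Abhyankar.Tame

variable {A : Type u} [CommRing A] [IsDomain A] [IsNoetherianRing A] [IsIntegrallyClosed A]
  {F : Type u} [Field F] [Algebra A F] [IsFractionRing A F]
  {Ω : Type u} [Field Ω] [Algebra F Ω] [Algebra A Ω] [IsScalarTower A F Ω]

/-- The orders attached to a tame field extension, étale away from the divisor. -/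
theorem exists_good {r : ℕ} (f : Fin r → A) [∀ i, (Ideal.span {f i}).IsPrime] (hf0 : ∀ i, f i ≠ 0)
    (B : Type u) [CommRing B] [Algebra A B] [Algebra (Localization.Away (∏ i, f i)) B]
    [IsScalarTower A (Localization.Away (∏ i, f i)) B]
    [Algebra.Etale (Localization.Away (∏ i, f i)) B] [Module.Finite (Localization.Away (∏ i, f i)) B]
    (L₀ : Type u) [Field L₀] [Algebra F L₀] [FiniteDimensional F L₀] [Algebra A L₀] [IsScalarTower A F L₀]
    (σ : B →ₐ[A] L₀) (hσ : Subfield.closure (Set.range σ) = ⊤)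
    (ht : ∀ (i : Fin r) (g : Localization.AtPrime (Ideal.span {f i}) →+* L₀),
      (∀ a, g (algebraMap A _ a) = algebraMap A L₀ a) →
        IsTamelyRamified (Localization.AtPrime (Ideal.span {f i})) g)
    (ι : L₀ →ₐ[F] Ω) :
    ∃ n : Fin r → ℕ, (∀ i, 1 ≤ n i ∧ (n i : A) ∉ Ideal.span {f i}) ∧ Basic.Good f n ι.fieldRange := by
  classical
  have hspan : ∀ i, Ideal.span {f i} ≠ ⊥ := fun i => by simpa using hf0 i
  choose e₀ he₀pos he₀ne he₀dvd using fun i : Fin r =>
    Groth.Agent.H48.Tame.exists_order (Localization.AtPrime (Ideal.span {f i})) (Module.finrank F L₀)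
  refine ⟨e₀, fun i => ⟨he₀pos i, fun h => he₀ne i ?_⟩, ?_⟩
  · rw [← map_natCast (residue _), residue_eq_zero_iff,
      ← map_natCast (algebraMap A (Localization.AtPrime (Ideal.span {f i})))]
    exact (IsLocalization.AtPrime.to_map_mem_maximal_iff _ (Ideal.span {f i}) _).2 h
  intro P hP h0 h1 W hW
  have := Val.isDVR_atPrime A P h0 h1
  let R := Localization.AtPrime P
  let _ : Algebra R F := (IsLocalization.lift (M := P.primeCompl) (g := algebraMap A F) fun y =>
    (IsFractionRing.to_map_ne_zero_of_mem_nonZeroDivisors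
      (Ideal.primeCompl_le_nonZeroDivisors P y.2) : algebraMap A F y ≠ 0).isUnit).toAlgebra
  have : IsScalarTower A R F := IsScalarTower.of_algebraMap_eq fun a => (IsLocalization.lift_eq _ a).symm
  have : IsFractionRing R F :=
    IsFractionRing.isFractionRing_of_isDomain_of_isLocalization P.primeCompl _ _
  have hdom := dominates_localization (F := F) hW R
  by_cases hex : ∃ i, f i ∈ P
  · obtain ⟨i, hi⟩ := hex
    obtain rfl := Basic.eq_span_of_mem (hf0 i) hi h1
    have ht' : IsTamelyRamified R ((algebraMap F L₀).comp (algebraMap R F)) := ht i _ fun a => by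
      rw [RingHom.comp_apply, ← IsScalarTower.algebraMap_apply A R F, ← IsScalarTower.algebraMap_apply A F L₀]
    obtain ⟨h1', h2', h3'⟩ := tame_at hdom ι ht' (e₀ i) (he₀dvd i)
    exact ⟨h1', h2', fun m hm => h3'.trans (hm i hi)⟩
  · push Not at hex
    have hu : IsUnit (algebraMap A R (∏ i, f i)) :=
      IsLocalization.map_units R (⟨∏ i, f i, fun h => (Ideal.IsPrime.prod_mem_iff.1 h).elim fun i hi => hex i hi.2⟩ : P.primeCompl)
    let Af := Localization.Away (∏ i, f i)
    let _ : Algebra Af R := (IsLocalization.Away.lift (S := Af) (∏ i, f i) hu).toAlgebra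
    have : IsScalarTower A Af R := IsScalarTower.of_algebraMap_eq fun a =>
      (IsLocalization.Away.lift_eq (S := Af) (∏ i, f i) hu a).symm
    let _ : Algebra Af L₀ := ((σ : B →+* L₀).comp (algebraMap Af B)).toAlgebra
    let gR : R →+* L₀ := (algebraMap F L₀).comp (algebraMap R F)
    have hgR : ∀ x : Af, gR (algebraMap Af R x) = algebraMap Af L₀ x := fun x => by
      refine RingHom.congr_fun (IsLocalization.ringHom_ext (Submonoid.powers (∏ i, f i))
        (j := gR.comp (algebraMap Af R)) (k := algebraMap Af L₀) (RingHom.ext fun a => ?_)) x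
      show algebraMap F _ (algebraMap R F (algebraMap Af R (algebraMap A Af a))) = σ (algebraMap Af B (algebraMap A Af a))
      rw [← IsScalarTower.algebraMap_apply A Af R, ← IsScalarTower.algebraMap_apply A R F,
        ← IsScalarTower.algebraMap_apply A F L₀, ← IsScalarTower.algebraMap_apply A Af B, σ.commutes]
    let gR' : R →ₐ[Af] L₀ := { gR with commutes' := hgR }
    let σ' : B →ₐ[Af] L₀ := { (σ : B →+* L₀) with commutes' := fun _ => rfl }
    let ψ : R ⊗[Af] B →ₐ[Af] L₀ :=
      Algebra.TensorProduct.lift gR' σ' fun _ _ => Commute.all _ _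
    have hgen : Subfield.closure (Set.range ψ.toRingHom) = ⊤ := by
      refine top_unique (hσ ▸ Subfield.closure_mono ?_)
      rintro _ ⟨b, rfl⟩
      refine ⟨1 ⊗ₜ b, ?_⟩
      show Algebra.TensorProduct.lift gR' σ' _ (1 ⊗ₜ b) = _
      rw [Algebra.TensorProduct.lift_tmul, map_one, one_mul]
      rfl
    obtain ⟨hS, he⟩ := etale_at hdom ι (E := R ⊗[Af] B) ψ.toRingHom (fun a => by
      show Algebra.TensorProduct.lift gR' _ _ (a ⊗ₜ 1) = _
      rw [Algebra.TensorProduct.lift_tmul, map_one, mul_one]
      rfl) hgen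
    refine ⟨hS, by rw [he, Nat.cast_one]; exact one_ne_zero, fun m _ => he ▸ one_dvd m⟩

end Groth.Agent.Lib.Abhyankar.Field
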