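import Groth.Agent.Lib.Abhyankar.Kummer
import Groth.Agent.Lib.Abhyankar.Field
import Groth.Agent.Lib.Kummer.Tame
import Groth.Agent.Lib.Regular.DirectLimit
import Mathlib.Algebra.DualNumber

/-!
The exact ramification of a Kummer extension of a regular local ring.
-/

set_option autoImplicit false
universe u

open IsLocalRing EtRam

namespace Groth.Agent.Lib.Abhyankar.Exact

open Groth.Agent.H48

variable {A : Type u} [CommRing A] [IsDomain A] [IsRegularLocalRing A] [IsIntegrallyClosed A]
  {F : Type u} [Field F] [Algebra A F] [IsFractionRing A F]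
  {Ω : Type u} [Field Ω] [Algebra F Ω] [Algebra A Ω] [IsScalarTower A F Ω]
  {r : ℕ} {f : Fin r → A} {n : Fin r → ℕ} {t : Fin r → Ω}
  (hm : ∀ i, f i ∈ maximalIdeal A)
  (hf : LinearIndependent (ResidueField A) (fun i => (maximalIdeal A).toCotangent ⟨f i, hm i⟩))
  (hn : ∀ i, 1 ≤ n i)

include hm hf hn

omit [IsIntegrallyClosed A] in
/-- The root of a parameter is a prime element of the Kummer ring. -/
theorem span_t_isPrime (i : Fin r) :
    (Ideal.span {Lib.Kummer.Alg.t f n i}).IsPrime ∧ Lib.Kummer.Alg.t f n i ≠ 0 := by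
  classical
  let K := Lib.Kummer.Alg.K f n
  have : IsRegularLocalRing K := Lib.Kummer.Alg.isRegularLocalRing f n hn hm hf
  have hmem := Lib.Kummer.Alg.isLocalRing_and_maximalIdeal f n hn hm
  obtain ⟨_, hmax⟩ := hmem
  suffices h2 : Lib.Kummer.Alg.t f n i ∉ maximalIdeal K ^ 2 by
    have h1 : Lib.Kummer.Alg.t f n i ∈ maximalIdeal K := by
      rw [hmax]; exact Ideal.mem_sup_right (Ideal.subset_span ⟨i, rfl⟩)
    have := Groth.Agent.Lib.Regular.DirectLimit.quotient_regular h1 h2
    have := Groth.Agent.Lib.Regular.Quotient.isDomain (K ⧸ Ideal.span {Lib.Kummer.Alg.t f n i})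
    exact ⟨(Ideal.Quotient.isDomain_iff_prime _).1 inferInstance, fun h => h2 (h ▸ Submodule.zero_mem _)⟩
  -- a map to a ring in which the maximal ideal squares to zero
  let I : Ideal A := Ideal.span (f '' {j | j ≠ i}) ⊔ maximalIdeal A ^ 2
  have hfi : f i ∉ I := by
    intro h
    obtain ⟨a, ha, b, hb, hab⟩ := Submodule.mem_sup.1 h
    have hle : Ideal.span (f '' {j | j ≠ i}) ≤ maximalIdeal A := Ideal.span_le.2 (by
      rintro _ ⟨j, -, rfl⟩; exact hm j)
    refine hf.notMem_span_image (s := {j | j ≠ i}) (x := i) (by simp) ?_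
    have hb' : b ∈ maximalIdeal A := Ideal.pow_le_self two_ne_zero hb
    have : (maximalIdeal A).toCotangent ⟨f i, hm i⟩ = (maximalIdeal A).toCotangent ⟨a, hle ha⟩ := by
      rw [Ideal.toCotangent_eq]
      simpa [← hab] using hb
    rw [this]
    have key : ∀ (c : A) (hc : c ∈ maximalIdeal A), c ∈ Ideal.span (f '' {j | j ≠ i}) →
        (maximalIdeal A).toCotangent ⟨c, hc⟩ ∈ Submodule.span (ResidueField A)
          ((fun j => (maximalIdeal A).toCotangent ⟨f j, hm j⟩) '' {j | j ≠ i}) := by
      intro c hc hcs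
      induction hcs using Submodule.span_induction with
      | mem x hx => obtain ⟨j, hj, rfl⟩ := hx; exact Submodule.subset_span ⟨j, hj, rfl⟩
      | zero => rw [show (⟨0, hc⟩ : maximalIdeal A) = 0 from rfl, map_zero]; exact zero_mem _
      | add x y hx hy ihx ihy =>
        rw [show (⟨x + y, hc⟩ : maximalIdeal A) = ⟨x, hle hx⟩ + ⟨y, hle hy⟩ from rfl, map_add]
        exact add_mem (ihx _) (ihy _)
      | smul c' x hx ihx =>
        rw [show (⟨c' • x, hc⟩ : maximalIdeal A) = c' • ⟨x, hle hx⟩ from rfl, map_smul]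
        exact Submodule.smul_mem _ (residue A c') (ihx _)
    exact key a (hle ha) ha
  intro h2
  by_cases h1n : n i = 1
  · let C := A ⧸ I
    let φ : K →ₐ[A] C := Lib.Kummer.Alg.desc f n
      (fun j => if j = i then algebraMap A C (f i) else 0) fun j => by
        rcases eq_or_ne j i with rfl | hj
        · simp [h1n]
        · rw [if_neg hj, zero_pow (by have := hn j; omega)]
          exact (Ideal.Quotient.eq_zero_iff_mem.2 (Ideal.mem_sup_left (Ideal.subset_span (s := f '' {j | j ≠ i}) ⟨j, hj, rfl⟩ : f j ∈ Ideal.span (f '' {j | j ≠ i})))).symm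
    have hmapm : maximalIdeal K ≤ ((maximalIdeal A).map (Ideal.Quotient.mk I)).comap φ := by
      rw [hmax]
      refine sup_le (Ideal.map_le_iff_le_comap.2 fun a ha => ?_) (Ideal.span_le.2 ?_)
      · rw [Ideal.mem_comap, Ideal.mem_comap, φ.commutes]; exact Ideal.mem_map_of_mem _ ha
      · rintro _ ⟨j, rfl⟩
        rw [SetLike.mem_coe, Ideal.mem_comap, Lib.Kummer.Alg.desc_t]
        split_ifs
        · exact Ideal.mem_map_of_mem _ (hm i)
        · exact Submodule.zero_mem _
    have h0 : φ (Lib.Kummer.Alg.t f n i) = 0 := by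
      have : φ (Lib.Kummer.Alg.t f n i) ∈ ((maximalIdeal A).map (Ideal.Quotient.mk I)) ^ 2 :=
        (Ideal.map_le_iff_le_comap.1 ((Ideal.map_pow _ _ _).le.trans
          (Ideal.pow_right_mono (Ideal.map_le_iff_le_comap.2 hmapm) 2))) h2
      rw [← Ideal.map_pow, Ideal.map_eq_bot_iff_le_ker _ |>.2 (by rw [Ideal.mk_ker]; exact le_sup_right)] at this
      exact this
    rw [Lib.Kummer.Alg.desc_t, if_pos rfl] at h0
    exact hfi (Ideal.Quotient.eq_zero_iff_mem.1 h0)
  · let C := DualNumber (ResidueField A)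
    let φ : K →ₐ[A] C := Lib.Kummer.Alg.desc f n
      (fun j => if j = i then DualNumber.eps else 0) fun j => by
        have hfj : algebraMap A C (f j) = 0 := by
          rw [IsScalarTower.algebraMap_apply A (ResidueField A) C, ResidueField.algebraMap_eq,
            (residue_eq_zero_iff _).2 (hm j), map_zero]
        rw [hfj]
        rcases eq_or_ne j i with rfl | hj
        · rw [if_pos rfl]
          obtain ⟨k, hk⟩ : ∃ k, n j = k + 2 := ⟨n j - 2, by have := hn j; omega⟩
          rw [hk, pow_add, pow_two, DualNumber.eps_mul_eps, mul_zero]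
        · rw [if_neg hj, zero_pow (by have := hn j; omega)]
    have hmapm : maximalIdeal K ≤ (Ideal.span {(DualNumber.eps : C)}).comap φ := by
      rw [hmax]
      refine sup_le (Ideal.map_le_iff_le_comap.2 fun a ha => ?_) (Ideal.span_le.2 ?_)
      · rw [Ideal.mem_comap, Ideal.mem_comap, φ.commutes, IsScalarTower.algebraMap_apply A (ResidueField A) C, ResidueField.algebraMap_eq,
          (residue_eq_zero_iff _).2 ha, map_zero]
        exact Submodule.zero_mem _
      · rintro _ ⟨j, rfl⟩
        rw [SetLike.mem_coe, Ideal.mem_comap, Lib.Kummer.Alg.desc_t]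
        split_ifs
        · exact Ideal.mem_span_singleton_self _
        · exact Submodule.zero_mem _
    have h0 : φ (Lib.Kummer.Alg.t f n i) ∈ (Ideal.span {(DualNumber.eps : C)}) ^ 2 :=
      (Ideal.map_le_iff_le_comap.1 ((Ideal.map_pow _ _ _).le.trans
        (Ideal.pow_right_mono (Ideal.map_le_iff_le_comap.2 hmapm) 2))) h2
    rw [Lib.Kummer.Alg.desc_t, if_pos rfl, Ideal.span_singleton_pow, pow_two, DualNumber.eps_mul_eps,
      Ideal.span_singleton_eq_bot.2 rfl, Ideal.mem_bot] at h0
    exact one_ne_zero (congrArg TrivSqZeroExt.snd h0 : (1 : ResidueField A) = 0)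

variable (ht : ∀ i, t i ^ n i = algebraMap A Ω (f i))

include ht

/-- Over a parameter, the valuation of the Kummer field is unique and totally of index `n i`. -/
theorem at_param [∀ i, (Ideal.span {f i}).IsPrime] {P : Ideal A} [P.IsPrime] (h1 : P.height ≤ 1)
    {i : Fin r} (hi : f i ∈ P) {W : ValuationSubring Ω} (hW : Val.Centred A W P) :
    Abhy.e W (bot_le : ⊥ ≤ Kummer.M (F := F) t) = n i ∧
    ∀ W' : ValuationSubring Ω, Val.Centred A W' P → ∀ x ∈ Kummer.M (F := F) t, x ∈ W → x ∈ W' := by
  classical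
  let M' := Kummer.M (F := F) t
  have hf0 : f i ≠ 0 := fun h0 => hf.ne_zero i (by
    rw [show (⟨f i, hm i⟩ : maximalIdeal A) = 0 from Subtype.ext h0, map_zero])
  have hPne : P ≠ ⊥ := fun h => hf0 (by simpa [h] using hi)
  obtain ⟨e, he⟩ := Kummer.exists_equiv (F := F) hm hf hn ht
  let C := integralClosure A M'
  have : IsRegularLocalRing C := Kummer.isRegularLocalRing hm hf hn ht
  have : IsIntegrallyClosed C := Groth.Agent.Lib.Regular.UFD.isIntegrallyClosed C
  have : FiniteDimensional F M' := Kummer.finiteDimensional hn ht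
  have : IsFractionRing C M' := integralClosure.isFractionRing_of_finite_extension F M'
  have : Module.Finite A C := have := Lib.Kummer.Alg.moduleFinite f n hn; Module.Finite.equiv e.toLinearEquiv
  have : Algebra.IsIntegral A C := Algebra.IsIntegral.of_finite A C
  let τ : C := e (Lib.Kummer.Alg.t f n i)
  obtain ⟨hKp, hKne⟩ := span_t_isPrime hm hf hn i
  have : (Ideal.span {τ}).IsPrime := by
    rw [show τ = e.toRingEquiv (Lib.Kummer.Alg.t f n i) from rfl, ← Set.image_singleton, ← Ideal.map_span]
    exact Ideal.map_isPrime_of_equiv e.toRingEquiv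
  have hτ0 : τ ≠ 0 := (map_ne_zero_iff _ e.injective).2 hKne
  have hτn : τ ^ n i = algebraMap A C (f i) := by
    rw [← map_pow, Lib.Kummer.Alg.t_pow, e.commutes]
  have hnat : ∀ a, ((algebraMap A C a : M') : Ω) = algebraMap A Ω a := fun a =>
    ((M'.val.restrictScalars A).comp C.val).commutes a
  have center : ∀ V : ValuationSubring Ω, Val.Centred A V P → (∀ c : C, ((c : M') : Ω) ∈ V) ∧
      ∀ c : C, V.valuation ((c : M') : Ω) < 1 ↔ c ∈ Ideal.span {τ} := by
    intro V hV
    have hmem : ∀ c : C, ((c : M') : Ω) ∈ V := fun c => by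
      have hint : IsIntegral A ((c : M') : Ω) :=
        (Algebra.IsIntegral.isIntegral (R := A) c).map ((M'.val.restrictScalars A).comp C.val)
      let _ : Algebra A V := ((algebraMap A Ω).codRestrict V hV.1).toAlgebra
      have : IsScalarTower A V Ω := IsScalarTower.of_algebraMap_eq fun _ => rfl
      obtain ⟨y, hy⟩ := IsIntegrallyClosed.isIntegral_iff.1 (hint.tower_top (A := V))
      exact hy ▸ y.2
    let g : C →+* V := (M'.val.toRingHom.comp C.val.toRingHom).codRestrict V hmem
    let Q := (maximalIdeal V).comap g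
    have hQ : ∀ c, c ∈ Q ↔ V.valuation ((c : M') : Ω) < 1 := fun c => ValuationSubring.valuation_lt_one_iff V (g c)
    have hQP : Q.under A = P := Ideal.ext fun a => by
      rw [Ideal.mem_comap, hQ, ← hV.2, hnat]
    have hQ1 : Q.height ≤ 1 := (Groth.Agent.Lib.Dim.Integral.height_le_height_under (R := A) Q).trans (hQP ▸ h1)
    have hτQ : τ ∈ Q := Ideal.IsPrime.mem_of_pow_mem inferInstance (n i) (by
      rw [hτn]
      show algebraMap A C (f i) ∈ Q
      exact Ideal.mem_comap.1 (hQP ▸ hi : f i ∈ Q.under A))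
    exact ⟨hmem, fun c => (hQ c).symm.trans (Basic.eq_span_of_mem hτ0 hτQ hQ1 ▸ Iff.rfl)⟩
  have hτh : (Ideal.span {τ}).height ≤ 1 := by
    refine (Groth.Agent.Lib.Dim.Integral.height_le_height_under (R := A) _).trans ?_
    have : (Ideal.span {τ}).under A = P := Ideal.ext fun a => by
      rw [Ideal.mem_comap, ← (center W hW).2, ← hW.2, hnat]
    exact this ▸ h1
  have hτne : Ideal.span {τ} ≠ ⊥ := by simpa using hτ0
  obtain ⟨hmemW, hcW⟩ := center W hW
  let _ : Algebra C (Abhy.V W M') := ((algebraMap C M').codRestrict (Abhy.V W M') hmemW).toAlgebra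
  have hl : IsLocalization.AtPrime (Abhy.V W M') (Ideal.span {τ}) :=
    Val.isLocalization_of_center (Abhy.V W M') _ hτne hτh hmemW fun c =>
      DomVal.valuation_comap_lt_one.trans (hcW c)
  refine ⟨?_, fun W' hW' x hx hxW => ?_⟩
  · obtain ⟨R, _, _, _, _, _, j, hj, hjm, hjs, hdom⟩ := Val.exists_dominates (F := F) hW hPne h1
    have := Abhy.isDVR hdom M'
    let _ : Algebra R (Abhy.V W M') := (Abhy.base hdom M').toAlgebra
    have hloc : IsLocalHom (algebraMap R (Abhy.V W M')) :=
      DomVal.isLocalHom_of_dominates (Abhy.dominates hdom _)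
    obtain ⟨hbe, -, -, -⟩ := Abhy.base_iff hdom M'
    rw [← hbe]
    have hmaxV : maximalIdeal (Abhy.V W M') = Ideal.span {algebraMap C (Abhy.V W M') τ} := by
      rw [← IsLocalization.AtPrime.map_eq_maximalIdeal (Ideal.span {τ}) (Abhy.V W M'), Ideal.map_span,
        Set.image_singleton]
    have hπ : algebraMap R (Abhy.V W M') (j (f i)) = algebraMap C (Abhy.V W M') τ ^ n i := by
      rw [← map_pow, hτn]
      refine Subtype.ext (Subtype.ext ?_)
      show algebraMap F Ω (algebraMap R F (j (f i))) = ((algebraMap A C (f i) : M') : Ω)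
      rw [hnat, hj, ← IsScalarTower.algebraMap_apply A F Ω]
    have hmap : (maximalIdeal R).map (algebraMap R (Abhy.V W M')) = maximalIdeal (Abhy.V W M') ^ n i := by
      have hR : maximalIdeal R = Ideal.span {j (f i)} := by
        refine le_antisymm (fun s hs => ?_)
          ((Ideal.span_singleton_le_iff_mem _).2 ((hjm _).2 hi))
        obtain ⟨a, d, hd, had⟩ := hjs s
        have ha : a ∈ P := (hjm a).1 (had ▸ Ideal.mul_mem_right _ _ hs)
        rw [Basic.eq_span_of_mem hf0 hi h1, Ideal.mem_span_singleton] at ha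
        obtain ⟨b, rfl⟩ := ha
        have hdu : IsUnit (j d) := by
          by_contra h
          exact hd ((hjm d).1 ((mem_maximalIdeal _).2 h))
        rw [Ideal.mem_span_singleton, ← hdu.dvd_mul_right, had, map_mul]
        exact dvd_mul_right _ _
      rw [hR, Ideal.map_span, Set.image_singleton, hπ, hmaxV, Ideal.span_singleton_pow]
    refine Ideal.ramificationIdx'_spec hmap.le fun hle => ?_
    rw [hmap] at hle
    have hτirr : Irreducible (algebraMap C (Abhy.V W M') τ) :=
      (IsDiscreteValuationRing.irreducible_iff_uniformizer _).2 hmaxV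
    rw [hmaxV, Ideal.span_singleton_pow, Ideal.span_singleton_pow,
      Ideal.span_singleton_le_span_singleton, pow_dvd_pow_iff hτirr.ne_zero hτirr.not_isUnit] at hle
    omega
  · obtain ⟨hmemW', hcW'⟩ := center W' hW'
    obtain ⟨⟨a, s⟩, has⟩ := IsLocalization.surj (Ideal.span {τ}).primeCompl (⟨⟨x, hx⟩, hxW⟩ : Abhy.V W M')
    have hs1 : W'.valuation (((s : C) : M') : Ω) = 1 :=
      le_antisymm ((W'.valuation_le_one_iff _).2 (hmemW' _)) (not_lt.1 fun h => s.2 ((hcW' _).1 h))
    refine (W'.valuation_le_one_iff x).1 ?_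
    have hxe : x * (((s : C) : M') : Ω) = ((a : M') : Ω) := congrArg (fun y : Abhy.V W M' => ((y : M') : Ω)) has
    have := congrArg W'.valuation hxe
    rw [map_mul, hs1, mul_one] at this
    exact this ▸ (W'.valuation_le_one_iff _).2 (hmemW' a)

end Groth.Agent.Lib.Abhyankar.Exact
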