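import Groth.Agent.Lib.Abhyankar.Units
import Groth.Agent.Lib.Kummer.Alg
import Groth.Agent.S1967
import Mathlib.RingTheory.Etale.Field
import Mathlib.RingTheory.Etale.Pi

/-!
Tame covers extend to Kummer extensions.
-/

set_option autoImplicit false
universe u

open IsLocalRing EtRam
open scoped TensorProduct

namespace Groth.Agent.Lib.Abhyankar.Extend

variable {A : Type u} [CommRing A]

theorem isUnit_map {r : ℕ} (f : Fin r → A) (n : Fin r → ℕ) :
    IsUnit (algebraMap A (Localization.Away (algebraMap A (SGA1.kummerAlg A f n) (∏ i, f i))) (∏ i, f i)) := by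
  exact (congrArg IsUnit (IsScalarTower.algebraMap_apply A (SGA1.kummerAlg A f n)
    (Localization.Away (algebraMap A (SGA1.kummerAlg A f n) (∏ i, f i))) (∏ i, f i))).mpr
    (IsLocalization.Away.algebraMap_isUnit _)

/-- The Kummer cover of the complement of the divisor. -/
noncomputable instance kgAlgebra {r : ℕ} (f : Fin r → A) (n : Fin r → ℕ) :
    Algebra (Localization.Away (∏ i, f i))
      (Localization.Away (algebraMap A (SGA1.kummerAlg A f n) (∏ i, f i))) :=
  (IsLocalization.Away.lift (S := Localization.Away (∏ i, f i)) (∏ i, f i) (isUnit_map f n)).toAlgebra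

instance kgTower {r : ℕ} (f : Fin r → A) (n : Fin r → ℕ) :
    IsScalarTower A (Localization.Away (∏ i, f i))
      (Localization.Away (algebraMap A (SGA1.kummerAlg A f n) (∏ i, f i))) :=
  IsScalarTower.of_algebraMap_eq fun a =>
    (IsLocalization.Away.lift_eq (S := Localization.Away (∏ i, f i)) (∏ i, f i) (isUnit_map f n) a).symm

instance kgComm {r : ℕ} (f : Fin r → A) (n : Fin r → ℕ) :
    SMulCommClass (Localization.Away (∏ i, f i)) (SGA1.kummerAlg A f n)
      (Localization.Away (algebraMap A (SGA1.kummerAlg A f n) (∏ i, f i))) :=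
  ⟨fun a s x => by rw [Algebra.smul_def a, Algebra.smul_def a, mul_smul_comm]⟩

variable [IsDomain A] [IsRegularLocalRing A] [IsIntegrallyClosed A]
  {r : ℕ} {f : Fin r → A} [∀ i, (Ideal.span {f i}).IsPrime] (hm : ∀ i, f i ∈ maximalIdeal A)
  (hf : LinearIndependent (ResidueField A) (fun i => (maximalIdeal A).toCotangent ⟨f i, hm i⟩))

include hm hf in
/-- The orders of a point of the generic fibre. -/
theorem exists_good_point {F : Type u} [Field F] [Algebra A F] [IsFractionRing A F]
    {Ω : Type u} [Field Ω] [Algebra F Ω] [Algebra A Ω] [IsScalarTower A F Ω]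
    (B : Type u) [CommRing B] [Algebra A B] [Algebra (Localization.Away (∏ i, f i)) B]
    [IsScalarTower A (Localization.Away (∏ i, f i)) B]
    [Algebra.Etale (Localization.Away (∏ i, f i)) B] [Module.Finite (Localization.Away (∏ i, f i)) B]
    (htame : SGA1.IsTameAlong f (algebraMap A B)) (χ : B →ₐ[A] Ω) :
    FiniteDimensional F (IntermediateField.adjoin F (Set.range χ)) ∧
    Algebra.IsSeparable F (IntermediateField.adjoin F (Set.range χ)) ∧
    ∃ n : Fin r → ℕ, (∀ i, 1 ≤ n i ∧ IsUnit ((n i : ℕ) : ResidueField A)) ∧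
      Basic.Good f n (IntermediateField.adjoin F (Set.range χ)) := by
  classical
  have hf0 := Strict.ne_zero hm hf
  have hF0 : (∏ i, f i) ≠ 0 := Finset.prod_ne_zero_iff.2 fun i _ => hf0 i
  have hAΩ : Function.Injective (algebraMap A Ω) := by
    rw [IsScalarTower.algebraMap_eq A F Ω]
    exact (algebraMap F Ω).injective.comp (IsFractionRing.injective A F)
  let Af := Localization.Away (∏ i, f i)
  let q : Ideal B := RingHom.ker χ.toRingHom
  have hqp : q.IsPrime := RingHom.ker_isPrime _
  have hq : Ideal.comap (algebraMap A B) q = ⊥ := by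
    rw [eq_bot_iff]
    intro a ha
    have h : χ (algebraMap A B a) = 0 := RingHom.mem_ker.1 ha
    rw [χ.commutes] at h
    exact hAΩ (h.trans (map_zero _).symm)
  let L₀ := q.ResidueField
  have hqL : ∀ x, algebraMap B L₀ x = 0 ↔ x ∈ q := fun x => Ideal.algebraMap_residueField_eq_zero
  have hAL : Function.Injective (algebraMap A L₀) := by
    rw [injective_iff_map_eq_zero]
    intro a ha
    rw [IsScalarTower.algebraMap_apply A B L₀, hqL] at ha
    have ha' : a ∈ Ideal.comap (algebraMap A B) q := ha
    rwa [hq, Ideal.mem_bot] at ha'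
  let _ : Algebra F L₀ := (IsFractionRing.lift hAL).toAlgebra
  have : IsScalarTower A F L₀ := IsScalarTower.of_algebraMap_eq fun a =>
    (IsFractionRing.lift_algebraMap hAL a).symm
  have hFu : IsUnit (algebraMap A F (∏ i, f i)) :=
    isUnit_iff_ne_zero.2 ((map_ne_zero_iff _ (IsFractionRing.injective A F)).2 hF0)
  let _ : Algebra Af F := (IsLocalization.Away.lift (S := Af) (∏ i, f i) hFu).toAlgebra
  have : IsScalarTower A Af F := IsScalarTower.of_algebraMap_eq fun a =>
    (IsLocalization.Away.lift_eq (S := Af) (∏ i, f i) hFu a).symm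
  have : IsScalarTower Af F L₀ := IsScalarTower.of_algebraMap_eq fun x => by
    refine RingHom.congr_fun (IsLocalization.ringHom_ext (Submonoid.powers (∏ i, f i))
      (j := algebraMap Af L₀) (k := (algebraMap F L₀).comp (algebraMap Af F)) (RingHom.ext fun a => ?_)) x
    show algebraMap Af L₀ (algebraMap A Af a) = algebraMap F L₀ (algebraMap Af F (algebraMap A Af a))
    rw [← IsScalarTower.algebraMap_apply A Af F, ← IsScalarTower.algebraMap_apply A F L₀,
      ← IsScalarTower.algebraMap_apply A Af L₀]
  let θ : F ⊗[Af] B →ₐ[F] L₀ :=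
    Algebra.TensorProduct.lift (Algebra.ofId F L₀) (IsScalarTower.toAlgHom Af B L₀) fun _ _ => Commute.all _ _
  have hdiv : ∀ y : L₀, ∃ a b : B, b ∉ q ∧ algebraMap B L₀ a / algebraMap B L₀ b = y := fun y => by
    obtain ⟨a, b, hb, hab⟩ := IsFractionRing.div_surjective (A := B ⧸ q) y
    obtain ⟨a, rfl⟩ := Ideal.Quotient.mk_surjective a
    obtain ⟨b, rfl⟩ := Ideal.Quotient.mk_surjective b
    rw [Ideal.algebraMap_quotient_residueField_mk, Ideal.algebraMap_quotient_residueField_mk] at hab
    exact ⟨a, b, fun h => nonZeroDivisors.ne_zero hb (Ideal.Quotient.eq_zero_iff_mem.2 h), hab⟩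
  have hθ : Function.Surjective θ := by
    have : Module.Finite F θ.range := Module.Finite.of_surjective θ.rangeRestrict.toLinearMap θ.rangeRestrict_surjective
    have hfield : IsField θ.range := isField_of_isIntegral_of_isField' (R := F) (Field.toIsField F)
    intro y
    obtain ⟨a, b, hb, rfl⟩ := hdiv y
    have hr : ∀ c, algebraMap B L₀ c ∈ θ.range := fun c => ⟨1 ⊗ₜ c, by
      show Algebra.TensorProduct.lift (Algebra.ofId F L₀) _ _ (1 ⊗ₜ c) = _
      rw [Algebra.TensorProduct.lift_tmul, map_one, one_mul]; rfl⟩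
    have hb0 : algebraMap B L₀ b ≠ 0 := fun h => hb ((hqL b).1 h)
    obtain ⟨c, hc⟩ := hfield.mul_inv_cancel (a := (⟨_, hr b⟩ : θ.range)) fun h => hb0 (congrArg Subtype.val h)
    have hinv : (algebraMap B L₀ b)⁻¹ = (c : L₀) := inv_eq_of_mul_eq_one_right (congrArg Subtype.val hc)
    show _ ∈ θ.range
    rw [div_eq_mul_inv, hinv]
    exact mul_mem (hr a) c.2
  have : Module.Finite F L₀ := Module.Finite.of_surjective θ.toLinearMap hθ
  have : Algebra.FormallyUnramified F L₀ := Algebra.FormallyUnramified.of_surjective θ hθ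
  have : Algebra.IsSeparable F L₀ := Algebra.FormallyUnramified.isSeparable F L₀
  let ι₀ : L₀ →+* Ω := Ideal.ResidueField.lift q χ.toRingHom (fun x hx => RingHom.mem_ker.1 hx)
    fun x hx => isUnit_iff_ne_zero.2 fun h => hx (RingHom.mem_ker.2 h)
  have hι₀ : ∀ b, ι₀ (algebraMap B L₀ b) = χ b := fun b => Ideal.ResidueField.lift_algebraMap _ _ _ _ b
  let ι : L₀ →ₐ[F] Ω := { ι₀ with
    commutes' := fun x => by
      obtain ⟨a, b, -, rfl⟩ := IsFractionRing.div_surjective (A := A) x
      show ι₀ (algebraMap F L₀ _) = _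
      rw [map_div₀, map_div₀, map_div₀, ← IsScalarTower.algebraMap_apply A F L₀, ← IsScalarTower.algebraMap_apply A F L₀,
        IsScalarTower.algebraMap_apply A B L₀, IsScalarTower.algebraMap_apply A B L₀, hι₀, hι₀, χ.commutes, χ.commutes,
        ← IsScalarTower.algebraMap_apply A F Ω, ← IsScalarTower.algebraMap_apply A F Ω] }
  have hι : ι.fieldRange = IntermediateField.adjoin F (Set.range χ) := by
    refine le_antisymm ?_ (IntermediateField.adjoin_le_iff.2 ?_)
    · rintro _ ⟨y, rfl⟩
      obtain ⟨a, b, -, rfl⟩ := hdiv y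
      show ι _ ∈ _
      rw [map_div₀]
      exact div_mem (IntermediateField.subset_adjoin F _ ⟨a, (hι₀ a).symm⟩)
        (IntermediateField.subset_adjoin F _ ⟨b, (hι₀ b).symm⟩)
    · rintro _ ⟨b, rfl⟩
      exact ⟨algebraMap B L₀ b, hι₀ b⟩
  let σ : B →ₐ[A] L₀ := IsScalarTower.toAlgHom A B L₀
  have hσ : Subfield.closure (Set.range σ) = ⊤ := eq_top_iff.2 fun y _ => by
    obtain ⟨a, b, -, rfl⟩ := hdiv y
    exact div_mem (Subfield.subset_closure ⟨a, rfl⟩) (Subfield.subset_closure ⟨b, rfl⟩)
  have htt : ∀ (i : Fin r) (g : Localization.AtPrime (Ideal.span {f i}) →+* L₀),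
      (∀ a, g (algebraMap A _ a) = algebraMap A L₀ a) →
        IsTamelyRamified (Localization.AtPrime (Ideal.span {f i})) g := fun i g hg => by
    convert htame i q hq using 1
    refine IsLocalization.ringHom_ext (Ideal.span {f i}).primeCompl (RingHom.ext fun a => ?_)
    simp only [RingHom.comp_apply, SGA1.genericResidueMap, IsLocalization.lift_eq, hg]
    exact IsScalarTower.algebraMap_apply A B L₀ a
  obtain ⟨n, hn, hg⟩ := Units.exists_good hm hf B L₀ σ hσ htt ι
  rw [hι] at hg
  refine ⟨hι ▸ ι.toLinearMap.finiteDimensional_range, ?_, n, hn, hg⟩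
  exact hι ▸ AlgEquiv.Algebra.isSeparable (AlgEquiv.ofInjectiveField ι)

include hm hf in
/-- A tame cover extends to a finite etale algebra over a Kummer ring. -/
theorem exists_extension (B : Type u) [CommRing B] [Algebra A B] [Algebra (Localization.Away (∏ i, f i)) B]
    [IsScalarTower A (Localization.Away (∏ i, f i)) B]
    [Algebra.Etale (Localization.Away (∏ i, f i)) B] [Module.Finite (Localization.Away (∏ i, f i)) B]
    (htame : SGA1.IsTameAlong f (algebraMap A B)) :
    ∃ n : Fin r → ℕ, (∀ i, 1 ≤ n i) ∧ (∀ i, IsUnit ((n i : ℕ) : ResidueField A)) ∧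
      ∃ W₀ : Subalgebra (SGA1.kummerAlg A f n)
          (Localization.Away (algebraMap A (SGA1.kummerAlg A f n) (∏ i, f i)) ⊗[Localization.Away (∏ i, f i)] B),
        Algebra.Etale (SGA1.kummerAlg A f n) W₀ ∧ Module.Finite (SGA1.kummerAlg A f n) W₀ ∧
        IsLocalization (Algebra.algebraMapSubmonoid W₀
          (Submonoid.powers (algebraMap A (SGA1.kummerAlg A f n) (∏ i, f i))))
          (Localization.Away (algebraMap A (SGA1.kummerAlg A f n) (∏ i, f i)) ⊗[Localization.Away (∏ i, f i)] B) := by
  classical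
  have hf0 := Strict.ne_zero hm hf
  have hF0 : (∏ i, f i) ≠ 0 := Finset.prod_ne_zero_iff.2 fun i _ => hf0 i
  let F := FractionRing A
  let Ω := AlgebraicClosure F
  let Af := Localization.Away (∏ i, f i)
  -- finitely many embeddings
  have hFu : IsUnit (algebraMap A F (∏ i, f i)) :=
    isUnit_iff_ne_zero.2 ((map_ne_zero_iff _ (IsFractionRing.injective A F)).2 hF0)
  let _ : Algebra Af F := (IsLocalization.Away.lift (S := Af) (∏ i, f i) hFu).toAlgebra
  have : IsScalarTower A Af F := IsScalarTower.of_algebraMap_eq fun a =>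
    (IsLocalization.Away.lift_eq (S := Af) (∏ i, f i) hFu a).symm
  have : IsScalarTower A Af Ω := IsScalarTower.of_algebraMap_eq fun a => by
    rw [IsScalarTower.algebraMap_apply Af F Ω, ← IsScalarTower.algebraMap_apply A Af F,
      ← IsScalarTower.algebraMap_apply A F Ω]
  have : Module.Finite F (F ⊗[Af] B) := inferInstance
  have : Finite (B →ₐ[Af] Ω) := Finite.of_injective
    (fun χ => Algebra.TensorProduct.lift (Algebra.ofId F Ω) χ fun _ _ => Commute.all _ _)
    fun χ χ' h => AlgHom.ext fun b => by
      have := AlgHom.congr_fun h (1 ⊗ₜ b)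
      simpa using this
  have := Fintype.ofFinite (B →ₐ[Af] Ω)
  choose hfd hsep N hN hgood using fun χ : B →ₐ[Af] Ω =>
    exists_good_point (F := F) (Ω := Ω) hm hf B htame (χ.restrictScalars A)
  let n : Fin r → ℕ := fun i => ∏ χ, N χ i
  have hn1 : ∀ i, 1 ≤ n i := fun i =>
    Nat.one_le_iff_ne_zero.2 (Finset.prod_ne_zero_iff.2 fun χ _ => Nat.one_le_iff_ne_zero.1 (hN χ i).1)
  have hnu : ∀ i, IsUnit ((n i : ℕ) : ResidueField A) := fun i => by
    rw [show ((n i : ℕ) : ResidueField A) = ∏ χ, ((N χ i : ℕ) : ResidueField A) from Nat.cast_prod _ _]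
    exact IsUnit.prod_univ_iff.2 fun χ => (hN χ i).2
  have hnA : ∀ i, IsUnit ((n i : ℕ) : A) := fun i => by
    by_contra h
    exact (hnu i).ne_zero (by rw [← map_natCast (residue A)]; exact (residue_eq_zero_iff _).2 h)
  have hgoodn : ∀ χ : B →ₐ[Af] Ω,
      Basic.Good f n (IntermediateField.adjoin F (Set.range (χ.restrictScalars A))) := fun χ P hP h0 h1 W hW => by
    obtain ⟨h1', h2', h3'⟩ := hgood χ P hP h0 h1 W hW
    exact ⟨h1', h2', fun m hm' => h3' m fun i hi =>
      (Finset.dvd_prod_of_mem (fun χ => N χ i) (Finset.mem_univ χ)).trans (hm' i hi)⟩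
  refine ⟨n, hn1, hnu, ?_⟩
  choose t ht using fun i => IsAlgClosed.exists_pow_nat_eq (algebraMap A Ω (f i)) (hn1 i)
  have hnF : ∀ i, (n i : F) ≠ 0 := fun i => by
    rw [← map_natCast (algebraMap A F)]; exact ((hnA i).map _).ne_zero
  let M : IntermediateField F Ω := Kummer.M t
  have : FiniteDimensional F M := Kummer.finiteDimensional hn1 ht
  have : Algebra.IsSeparable F M := Kummer.isSeparable hnF hf0 ht
  let K := SGA1.kummerAlg A f n
  obtain ⟨eK, -⟩ := Kummer.exists_equiv (F := F) hm hf hn1 ht
  let C := integralClosure A M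
  have : IsRegularLocalRing K := Lib.Kummer.Alg.isRegularLocalRing f n hn1 hm hf
  have : IsDomain K := Groth.Agent.Lib.Regular.Quotient.isDomain K
  have : IsIntegrallyClosed K := Groth.Agent.Lib.Regular.UFD.isIntegrallyClosed K
  have : Algebra.IsIntegral A K := Lib.Kummer.Alg.isIntegral f n hn1
  have : IsRegularLocalRing C := Kummer.isRegularLocalRing hm hf hn1 ht
  let jK : K →ₐ[A] M := C.val.comp eK.toAlgHom
  have hjK : Function.Injective jK := Subtype.val_injective.comp eK.injective
  let _ : Algebra K M := jK.toRingHom.toAlgebra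
  have : FaithfulSMul K M := (faithfulSMul_iff_algebraMap_injective _ _).2 hjK
  have : IsFractionRing C M := integralClosure.isFractionRing_of_finite_extension F M
  have : IsFractionRing K M := IsFractionRing.of_field K M fun x => by
    obtain ⟨a, b, -, hab⟩ := IsFractionRing.div_surjective (A := C) x
    obtain ⟨a, rfl⟩ := eK.surjective a
    obtain ⟨b, rfl⟩ := eK.surjective b
    exact ⟨a, b, hab.symm⟩
  let g : K := algebraMap A K (∏ i, f i)
  have hg0 : g ≠ 0 := (map_ne_zero_iff _ (Lib.Kummer.Alg.algebraMap_injective f n hn1)).2 hF0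
  have hpow : Submonoid.powers g ≤ nonZeroDivisors K := powers_le_nonZeroDivisors_of_noZeroDivisors hg0
  let Kg := Localization.Away g
  have : IsDomain Kg := IsLocalization.isDomain_localization hpow
  have : IsIntegrallyClosed Kg := isIntegrallyClosed_of_isLocalization Kg _ hpow
  have hMu : IsUnit (algebraMap K M g) := isUnit_iff_ne_zero.2 ((map_ne_zero_iff _ hjK).2 hg0)
  let _ : Algebra Kg M := (IsLocalization.Away.lift (S := Kg) g hMu).toAlgebra
  have : IsScalarTower K Kg M := IsScalarTower.of_algebraMap_eq fun a =>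
    (IsLocalization.Away.lift_eq (S := Kg) g hMu a).symm
  have : IsFractionRing Kg M :=
    IsFractionRing.isFractionRing_of_isDomain_of_isLocalization (Submonoid.powers g) _ _
  have : IsScalarTower A Kg M := IsScalarTower.of_algebraMap_eq fun a => by
    rw [IsScalarTower.algebraMap_apply A K Kg, ← IsScalarTower.algebraMap_apply K Kg M]
    exact (jK.commutes a).symm
  let B' := Kg ⊗[Af] B
  let W₀ : Subalgebra K B' := integralClosure K B'
  refine ⟨W₀, ?_⟩
  let Q := M ⊗[Kg] B'
  have : Algebra.Etale M Q := inferInstance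
  obtain ⟨I, hI, G, hG, hGalg, e, hGsep⟩ :=
    (Algebra.FormallyEtale.iff_exists_algEquiv_prod M Q).mp inferInstance
  have hQfin : Module.Finite M Q := inferInstance
  have hGfd : ∀ i, FiniteDimensional M (G i) := fun i =>
    Module.Finite.of_surjective ((Pi.evalAlgHom M G i).comp e.toAlgHom).toLinearMap
      (fun y => ⟨e.symm (Pi.single i y), by simp⟩)
  let _ : ∀ i, Algebra A (G i) := fun i => ((algebraMap M (G i)).comp (algebraMap A M)).toAlgebra
  have : ∀ i, IsScalarTower A M (G i) := fun i => IsScalarTower.of_algebraMap_eq fun _ => rfl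
  have : IsScalarTower A M Ω := IsScalarTower.of_algebraMap_eq fun a => ((M.val.restrictScalars A).commutes a).symm
  let ι : ∀ i, G i →ₐ[M] Ω := fun i => IsAlgClosed.lift
  let π : ∀ i, Q →ₐ[M] Ω := fun i => (ι i).comp ((Pi.evalAlgHom M G i).comp e.toAlgHom)
  have hπj : ∀ (i : I) (b' : B') (m : M), π i (m ⊗ₜ b') = (m : Ω) * π i (1 ⊗ₜ b') := fun i b' m => by
    rw [show m ⊗ₜ[Kg] b' = m • ((1 : M) ⊗ₜ[Kg] b') by rw [TensorProduct.smul_tmul', smul_eq_mul, mul_one],
      map_smul, Algebra.smul_def]
    rfl
  let c : ∀ i, B' →+* Ω := fun i => (π i).toRingHom.comp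
    (Algebra.TensorProduct.includeRight : B' →ₐ[Kg] Q).toRingHom
  have hcK : ∀ i (k : K), c i (algebraMap K B' k) = ((algebraMap K M k : M) : Ω) := fun i k => by
    show π i ((1 : M) ⊗ₜ algebraMap K B' k) = _
    rw [show algebraMap K B' k = algebraMap Kg B' (algebraMap K Kg k) from rfl,
      ← Algebra.TensorProduct.tmul_one_eq_one_tmul, ← IsScalarTower.algebraMap_apply K Kg M]
    exact (π i).commutes _
  have hcA : ∀ i a, c i (algebraMap K B' (algebraMap A K a)) = algebraMap A Ω a := fun i a => by
    rw [hcK]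
    exact congrArg Subtype.val (jK.commutes a)
  let χ : I → (B →ₐ[Af] Ω) := fun i =>
    { (c i).comp (Algebra.TensorProduct.includeRight : B →ₐ[Af] B').toRingHom with
      commutes' := fun x => RingHom.congr_fun (IsLocalization.ringHom_ext (Submonoid.powers (∏ i, f i))
        (j := ((c i).comp (Algebra.TensorProduct.includeRight : B →ₐ[Af] B').toRingHom).comp (algebraMap Af B))
        (k := algebraMap Af Ω) (RingHom.ext fun a => by
          show c i ((1 : Kg) ⊗ₜ[Af] algebraMap Af B (algebraMap A Af a)) = algebraMap Af Ω (algebraMap A Af a)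
          rw [← Algebra.TensorProduct.tmul_one_eq_one_tmul, ← IsScalarTower.algebraMap_apply A Af Ω,
            ← IsScalarTower.algebraMap_apply A Af Kg, IsScalarTower.algebraMap_apply A K Kg]
          exact hcA i a)) x }
  let L : I → IntermediateField F Ω := fun i =>
    IntermediateField.adjoin F (Set.range ((χ i).restrictScalars A))
  have hLfd : ∀ i, FiniteDimensional F (L i) := fun i => hfd (χ i)
  have hLsep : ∀ i, Algebra.IsSeparable F (L i) := fun i => hsep (χ i)
  let T : I → IntermediateField F Ω := fun i => L i ⊔ M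
  have hTfd : ∀ i, FiniteDimensional F (T i) := fun i => IntermediateField.finiteDimensional_sup (L i) M
  have hTsep : ∀ i, Algebra.IsSeparable F (T i) := fun i =>
    inferInstanceAs (Algebra.IsSeparable F (L i ⊔ M : IntermediateField F Ω))
  have hrange : ∀ i (y : G i), ι i y ∈ T i := fun i y => by
    obtain ⟨x, hx⟩ : ∃ x : Q, e x i = y := ⟨e.symm (Pi.single i y), by simp⟩
    subst hx
    show π i x ∈ T i
    induction x using TensorProduct.induction_on with
    | zero => rw [map_zero]; exact zero_mem _
    | add a b ha hb => rw [map_add]; exact add_mem ha hb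
    | tmul m b' =>
      rw [hπj]
      refine mul_mem ((le_sup_right : M ≤ T i) m.2) ?_
      show c i b' ∈ T i
      induction b' using TensorProduct.induction_on with
      | zero => rw [map_zero]; exact zero_mem _
      | add a b ha hb => rw [map_add]; exact add_mem ha hb
      | tmul k b =>
        rw [show (k ⊗ₜ[Af] b : B') = k ⊗ₜ[Af] (1 : B) * (1 : Kg) ⊗ₜ[Af] b by
          rw [Algebra.TensorProduct.tmul_mul_tmul, mul_one, one_mul], map_mul]
        refine mul_mem ((le_sup_right : M ≤ T i) ?_)
          ((le_sup_left : L i ≤ T i) (IntermediateField.subset_adjoin F _ ⟨b, rfl⟩))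
        have : c i (k ⊗ₜ[Af] (1 : B)) = ((algebraMap Kg M k : M) : Ω) := by
          show π i ((1 : M) ⊗ₜ algebraMap Kg B' k) = _
          rw [← Algebra.TensorProduct.tmul_one_eq_one_tmul]
          exact (π i).commutes _
        rw [this]
        exact (algebraMap Kg M k).2
  have hrange' : ∀ i (z : Ω), z ∈ T i → ∃ y, ι i y = z := fun i z hz => by
    let R : IntermediateField F Ω := Subfield.toIntermediateField (ι i).toRingHom.fieldRange
      fun k => ⟨algebraMap M (G i) (algebraMap F M k), (ι i).commutes _⟩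
    have : T i ≤ R := sup_le (IntermediateField.adjoin_le_iff.2 (by
        rintro _ ⟨b, rfl⟩
        exact ⟨e ((1 : M) ⊗ₜ ((1 : Kg) ⊗ₜ[Af] b)) i, rfl⟩))
      fun m hm' => ⟨algebraMap M (G i) ⟨m, hm'⟩, (ι i).commutes _⟩
    exact this hz
  -- the comparison map
  let ψ : ∀ i, W₀ →ₐ[A] integralClosure A (T i) := fun i =>
    let p : B' → T i := fun x => ⟨c i x, hrange i (e (1 ⊗ₜ x) i)⟩
    let p' : B' →+* T i :=
      { toFun := p
        map_one' := Subtype.ext (map_one (c i))
        map_mul' := fun x y => Subtype.ext (map_mul (c i) x y)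
        map_zero' := Subtype.ext (map_zero (c i))
        map_add' := fun x y => Subtype.ext (map_add (c i) x y) }
    let pA : W₀ →ₐ[A] T i :=
      { p'.comp W₀.val.toRingHom with
        commutes' := fun a => Subtype.ext (by
          show c i (algebraMap A W₀ a : B') = _
          rw [IsScalarTower.algebraMap_apply A K W₀]
          exact hcA i a) }
    pA.codRestrict _ fun w => by
      have hw : IsIntegral K (w : B') := w.2
      have h : IsIntegral A (w : W₀) := (isIntegral_algHom_iff (W₀.val.restrictScalars A) Subtype.val_injective).1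
        (isIntegral_trans (R := A) (A := K) _ hw)
      exact h.map pA
  have hψ : ∀ i (w : W₀), ((ψ i w : T i) : Ω) = c i (w : B') := fun i w => rfl
  have hinjQ : Function.Injective (fun x : B' => (1 : M) ⊗ₜ[Kg] x) :=
    Algebra.TensorProduct.includeRight_injective (R := Kg) (A := M) (B := B') (IsFractionRing.injective Kg M)
  let Ψ : W₀ →+* (∀ i, integralClosure A (T i)) := Pi.ringHom fun i => (ψ i).toRingHom
  have hΨ : Function.Bijective Ψ := by
    constructor
    · intro w w' h
      refine Subtype.ext (hinjQ (e.injective (funext fun i => (ι i).injective ?_)))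
      exact congrArg (fun z : integralClosure A (T i) => ((z : T i) : Ω)) (congrFun h i)
    · intro y
      choose z hz using fun i => hrange' i _ ((y i : T i)).2
      have hzint : ∀ i, IsIntegral A (z i) := fun i => by
        let φi : G i →ₐ[A] Ω := { (ι i).toRingHom with
          commutes' := fun a => by
            show ι i (algebraMap A (G i) a) = algebraMap A Ω a
            exact ((ι i).restrictScalars A).commutes a }
        refine (isIntegral_algHom_iff φi (ι i).injective).1 ?_
        show IsIntegral A (ι i (z i))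
        rw [hz]
        exact (y i).2.map ((T i).val.restrictScalars A)
      have := Fintype.ofFinite I
      have hx : IsIntegral A (e.symm z) := by
        suffices hz' : IsIntegral A z from hz'.map (e.symm.toAlgHom.restrictScalars A)
        rw [show z = ∑ i, Pi.single i (z i) from (Finset.univ_sum_single z).symm]
        refine IsIntegral.sum _ fun i _ => ?_
        have hsingle : IsIntegral A (Pi.single i (z i) : ∀ j, G j) := by
          obtain ⟨p, hp, hpz⟩ := hzint i
          refine ⟨p * Polynomial.X, hp.mul Polynomial.monic_X, ?_⟩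
          change Polynomial.aeval (Pi.single i (z i) : ∀ j, G j) (p * Polynomial.X) = 0
          funext j
          rw [Polynomial.aeval_pi_apply₂, map_mul, Polynomial.aeval_X, Pi.zero_apply]
          rcases eq_or_ne j i with rfl | hj
          · rw [Pi.single_eq_same]; exact mul_eq_zero_of_left hpz _
          · rw [Pi.single_eq_of_ne hj, mul_zero]
        exact hsingle
      have hx' : IsIntegral B' (Algebra.TensorProduct.comm Kg M B' (e.symm z)) := by
        obtain ⟨p, hp, hpz⟩ := hx
        refine ⟨p.map ((algebraMap Kg B').comp (algebraMap A Kg)), hp.map _, ?_⟩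
        rw [Polynomial.eval₂_map]
        have h1 : (algebraMap B' (B' ⊗[Kg] M)).comp ((algebraMap Kg B').comp (algebraMap A Kg)) =
            ((Algebra.TensorProduct.comm Kg M B').toRingEquiv.toRingHom).comp (algebraMap A Q) := by
          refine RingHom.ext fun a => ?_
          show (algebraMap Kg B' (algebraMap A Kg a)) ⊗ₜ[Kg] (1 : M) =
            Algebra.TensorProduct.comm Kg M B' (algebraMap A M a ⊗ₜ[Kg] (1 : B'))
          rw [Algebra.TensorProduct.comm_tmul, Algebra.TensorProduct.tmul_one_eq_one_tmul,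
            ← IsScalarTower.algebraMap_apply A Kg M]
        rw [h1]
        have := congrArg (Algebra.TensorProduct.comm Kg M B').toRingEquiv.toRingHom hpz
        rwa [Polynomial.hom_eval₂, map_zero] at this
      obtain ⟨b, hb⟩ := (isIntegrallyClosedIn_iff.1 (Groth.Agent.S1967.result Kg M B')).2 hx'
      have hb' : (1 : M) ⊗ₜ[Kg] b = e.symm z := (Algebra.TensorProduct.comm Kg M B').injective (by
        rw [Algebra.TensorProduct.comm_tmul, ← hb]; rfl)
      have hbA : IsIntegral A b := (isIntegral_algHom_iff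
        ((Algebra.TensorProduct.includeRight : B' →ₐ[Kg] Q).restrictScalars A) hinjQ).1 (by
        show IsIntegral A ((1 : M) ⊗ₜ[Kg] b)
        rw [hb']; exact hx)
      refine ⟨⟨b, hbA.tower_top⟩, funext fun i => Subtype.ext (Subtype.ext ?_)⟩
      show π i ((1 : M) ⊗ₜ[Kg] b) = _
      rw [hb']
      show ι i (e (e.symm z) i) = _
      rw [e.apply_symm_apply, hz]
  -- étaleness
  let algC : ∀ i, Algebra C (integralClosure A (T i)) := fun i =>
    (Val.inc (A := A) (le_sup_right : M ≤ L i ⊔ M)).toAlgebra
  let algK : ∀ i, Algebra K (integralClosure A (T i)) := fun i =>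
    ((algC i).algebraMap.comp eK.toRingHom).toAlgebra
  have hetale : ∀ i, Algebra.Etale K (integralClosure A (T i)) ∧ Module.Finite K (integralClosure A (T i)) := by
    intro i
    have h1 : Algebra.Etale C (integralClosure A (T i)) :=
      Basic.etale_sup f hf0 n (fun j => hn1 j) (L i) M (hgoodn (χ i)) fun j => ⟨t j, Kummer.mem_M t j, ht j⟩
    let _ : Algebra K C := eK.toRingHom.toAlgebra
    have : IsScalarTower K C (integralClosure A (T i)) := IsScalarTower.of_algebraMap_eq fun _ => rfl
    have : Algebra.Etale K C := RingHom.etale_algebraMap.1 (RingHom.Etale.of_bijective eK.bijective)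
    refine ⟨Algebra.Etale.comp K C _, ?_⟩
    have : Module.Finite A (integralClosure A (T i)) := IsIntegralClosure.finite A F (T i) _
    have : IsScalarTower A K (integralClosure A (T i)) := IsScalarTower.of_algebraMap_eq
      (R := A) (S := K) (A := integralClosure A (T i)) fun a => by
      show _ = Val.inc (A := A) (le_sup_right : M ≤ L i ⊔ M) (eK (algebraMap A K a))
      exact ((Val.inc (A := A) (le_sup_right : M ≤ L i ⊔ M)).commutes a).symm.trans
        (congrArg (Val.inc (A := A) (le_sup_right : M ≤ L i ⊔ M)) (eK.commutes a).symm)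
    exact Module.Finite.of_restrictScalars_finite A K _
  have : ∀ i, Algebra.Etale K (integralClosure A (T i)) := fun i => (hetale i).1
  have : ∀ i, Module.Finite K (integralClosure A (T i)) := fun i => (hetale i).2
  have hfinpi : Module.Finite K (∀ i, integralClosure A (T i)) := Module.Finite.pi
  let Φ : W₀ ≃ₐ[K] (∀ i, integralClosure A (T i)) :=
    AlgEquiv.ofRingEquiv (f := RingEquiv.ofBijective Ψ hΨ) fun k => funext fun i => Subtype.ext (Subtype.ext (by
      show c i (algebraMap K B' k) = _
      rw [hcK]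
      rfl))
  refine ⟨Algebra.Etale.of_equiv Φ.symm, Module.Finite.equiv Φ.symm.toLinearEquiv, ?_⟩
  refine ⟨?_, fun z => ?_, fun {x y} h => ⟨1, by rw [Subtype.ext h]⟩⟩
  · rintro ⟨_, s, hs, rfl⟩
    rw [← IsScalarTower.algebraMap_apply, IsScalarTower.algebraMap_apply K Kg B']
    exact (IsLocalization.map_units Kg ⟨s, hs⟩).map _
  · have hz : IsIntegral Kg z := Algebra.IsIntegral.isIntegral z
    obtain ⟨⟨s, hs⟩, hsz⟩ := hz.exists_multiple_integral_of_isLocalization (Submonoid.powers g) z
    refine ⟨⟨⟨_, hsz⟩, ⟨algebraMap K W₀ s, s, hs, rfl⟩⟩, ?_⟩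
    show z * algebraMap W₀ B' (algebraMap K W₀ s) = _
    rw [← IsScalarTower.algebraMap_apply, mul_comm, ← Algebra.smul_def]
    rfl

end Groth.Agent.Lib.Abhyankar.Extend
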