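import Groth.Agent.Lib.Kummer.Alg
import Groth.Agent.Lib.Regular.Quotient
import Groth.Agent.Lib.Regular.UFD
import Groth.Agent.Lib.Abhyankar.Val
import Groth.Agent.S14620
import Mathlib.FieldTheory.SeparableClosure
import Mathlib.FieldTheory.IsAlgClosed.Basic

/-!
The Kummer ring as an integral closure.
-/

set_option autoImplicit false
universe u

open IsLocalRing

namespace Groth.Agent.Lib.Abhyankar.Kummer

variable {A : Type u} [CommRing A] [IsDomain A] [IsRegularLocalRing A]
  {F : Type u} [Field F] [Algebra A F] [IsFractionRing A F]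
  {Ω : Type u} [Field Ω] [Algebra F Ω] [Algebra A Ω] [IsScalarTower A F Ω]
  {r : ℕ} (f : Fin r → A) (n : Fin r → ℕ) (t : Fin r → Ω)

/-- The field generated by the roots. -/
def M (t : Fin r → Ω) : IntermediateField F Ω := IntermediateField.adjoin F (Set.range t)

theorem mem_M (i : Fin r) : t i ∈ M (F := F) t := IntermediateField.subset_adjoin F _ ⟨i, rfl⟩

variable {f n t}

theorem finiteDimensional (hn : ∀ i, 1 ≤ n i) (ht : ∀ i, t i ^ n i = algebraMap A Ω (f i)) :
    FiniteDimensional F (M (F := F) t) :=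
  IntermediateField.finiteDimensional_adjoin (by
    rintro _ ⟨i, rfl⟩
    refine IsIntegral.of_pow (hn i) ?_
    rw [ht, IsScalarTower.algebraMap_apply A F Ω]
    exact isIntegral_algebraMap)

theorem isSeparable (hnF : ∀ i, (n i : F) ≠ 0) (hf0 : ∀ i, f i ≠ 0)
    (ht : ∀ i, t i ^ n i = algebraMap A Ω (f i)) : Algebra.IsSeparable F (M (F := F) t) := by
  refine (IntermediateField.isSeparable_adjoin_iff_isSeparable F Ω).2 ?_
  rintro _ ⟨i, rfl⟩
  have hc : algebraMap A F (f i) ≠ 0 := (map_ne_zero_iff _ (IsFractionRing.injective A F)).2 (hf0 i)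
  refine (Polynomial.separable_X_pow_sub_C (algebraMap A F (f i)) (hnF i) hc).of_dvd (minpoly.dvd F _ ?_)
  rw [map_sub, map_pow, Polynomial.aeval_X, Polynomial.aeval_C, ht,
    ← IsScalarTower.algebraMap_apply A F Ω, sub_self]

variable (hm : ∀ i, f i ∈ maximalIdeal A)
  (hf : LinearIndependent (ResidueField A) (fun i => (maximalIdeal A).toCotangent ⟨f i, hm i⟩))
  (hn : ∀ i, 1 ≤ n i) (ht : ∀ i, t i ^ n i = algebraMap A Ω (f i))

include hm hf hn ht

/-- The Kummer ring is the integral closure of `A` in the field of the roots. -/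
theorem exists_equiv : ∃ e : Lib.Kummer.Alg.K f n ≃ₐ[A] integralClosure A (M (F := F) t),
    ∀ i, ((e (Lib.Kummer.Alg.t f n i) : M (F := F) t) : Ω) = t i := by
  classical
  let K' := Lib.Kummer.Alg.K f n
  have : IsRegularLocalRing K' := Lib.Kummer.Alg.isRegularLocalRing f n hn hm hf
  have : IsDomain K' := Groth.Agent.Lib.Regular.Quotient.isDomain K'
  have : IsIntegrallyClosed K' := Groth.Agent.Lib.Regular.UFD.isIntegrallyClosed K'
  have := Lib.Kummer.Alg.isIntegral f n hn
  let M' := M (F := F) t
  have hc : ∀ i, (⟨t i, mem_M t i⟩ : M') ^ n i = algebraMap A M' (f i) := fun i => Subtype.ext (ht i)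
  let ψ : K' →ₐ[A] M' := Lib.Kummer.Alg.desc f n (fun i => ⟨t i, mem_M t i⟩) hc
  have hAM : Function.Injective (algebraMap A M') := fun a b h =>
    IsFractionRing.injective A F ((algebraMap F Ω).injective (by
      rw [← IsScalarTower.algebraMap_apply A F Ω, ← IsScalarTower.algebraMap_apply A F Ω]
      exact congrArg Subtype.val h))
  have : (RingHom.ker ψ.toRingHom).IsPrime := RingHom.ker_isPrime _
  have hψ : Function.Injective ψ.toRingHom := by
    rw [RingHom.injective_iff_ker_eq_bot]
    refine Ideal.eq_bot_of_comap_eq_bot (R := A) ?_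
    rw [← le_bot_iff]
    intro a ha
    refine hAM ?_
    rw [map_zero, ← ψ.commutes]
    exact ha
  let _ : Algebra K' M' := ψ.toRingHom.toAlgebra
  have hsurj : ∀ x : M', ∃ a : A, a ≠ 0 ∧ ∃ k : K', algebraMap A M' a * x = ψ k := by
    intro x
    have e := IntermediateField.adjoin_toSubalgebra_of_isAlgebraic (F := F) (S := Set.range t) (fun y hy => by
        obtain ⟨i, rfl⟩ := hy
        refine (IsIntegral.of_pow (hn i) ?_).isAlgebraic
        rw [ht, IsScalarTower.algebraMap_apply A F Ω]
        exact isIntegral_algebraMap)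
    have hx : (x : Ω) ∈ Algebra.adjoin F (Set.range t) := e.le x.2
    suffices ∀ w ∈ Algebra.adjoin F (Set.range t), ∃ a : A, a ≠ 0 ∧ ∃ k : K', algebraMap A Ω a * w = (ψ k : Ω) by
      obtain ⟨a, ha, k, hk⟩ := this _ hx
      exact ⟨a, ha, k, Subtype.ext hk⟩
    clear hx x
    intro w hx
    induction hx using Algebra.adjoin_induction with
    | mem y hy =>
      obtain ⟨i, rfl⟩ := hy
      exact ⟨1, one_ne_zero, Lib.Kummer.Alg.t f n i, by
        rw [map_one, one_mul]
        exact (congrArg Subtype.val (Lib.Kummer.Alg.desc_t f n _ hc i)).symm⟩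
    | algebraMap c =>
      obtain ⟨⟨b, d⟩, hbd⟩ := IsLocalization.surj (nonZeroDivisors A) c
      refine ⟨d, nonZeroDivisors.ne_zero d.2, algebraMap A K' b, ?_⟩
      rw [ψ.commutes, IsScalarTower.algebraMap_apply A F Ω, ← map_mul, mul_comm, hbd,
        ← IsScalarTower.algebraMap_apply A F Ω]
      rfl
    | add y z _ _ hy hz =>
      obtain ⟨a, ha, k, hk⟩ := hy
      obtain ⟨b, hb, l, hl⟩ := hz
      refine ⟨a * b, mul_ne_zero ha hb, algebraMap A K' b * k + algebraMap A K' a * l, ?_⟩
      simp only [map_add, map_mul, AlgHom.commutes]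
      push_cast
      rw [← hk, ← hl]
      show _ = algebraMap A Ω b * _ + algebraMap A Ω a * _
      ring
    | mul y z _ _ hy hz =>
      obtain ⟨a, ha, k, hk⟩ := hy
      obtain ⟨b, hb, l, hl⟩ := hz
      refine ⟨a * b, mul_ne_zero ha hb, k * l, ?_⟩
      simp only [map_mul]
      push_cast
      rw [← hk, ← hl]
      ring
  have : FaithfulSMul K' M' := (faithfulSMul_iff_algebraMap_injective _ _).2 hψ
  have : IsFractionRing K' M' := IsFractionRing.of_field K' M' fun x => by
    obtain ⟨a, ha, k, hk⟩ := hsurj x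
    refine ⟨k, algebraMap A K' a, ?_⟩
    show x = ψ k / ψ (algebraMap A K' a)
    rw [ψ.commutes, ← hk, mul_div_cancel_left₀ _ ((map_ne_zero_iff _ hAM).2 ha)]
  let θ : K' →ₐ[A] integralClosure A M' := ψ.codRestrict _ fun k =>
    (Algebra.IsIntegral.isIntegral (R := A) k).map ψ
  have hθ : Function.Bijective θ := by
    refine ⟨fun a b h => hψ (congrArg Subtype.val h), fun x => ?_⟩
    have : IsScalarTower A K' M' := IsScalarTower.of_algebraMap_eq fun a => (ψ.commutes a).symm
    obtain ⟨k, hk⟩ := IsIntegrallyClosed.isIntegral_iff.1 (x.2.tower_top (A := K'))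
    exact ⟨k, Subtype.ext hk⟩
  exact ⟨AlgEquiv.ofBijective θ hθ, fun i => congrArg Subtype.val (Lib.Kummer.Alg.desc_t f n _ hc i)⟩

theorem isRegularLocalRing : IsRegularLocalRing (integralClosure A (M (F := F) t)) := by
  obtain ⟨e, -⟩ := exists_equiv (F := F) hm hf hn ht
  have : IsRegularLocalRing (Lib.Kummer.Alg.K f n) := Lib.Kummer.Alg.isRegularLocalRing f n hn hm hf
  exact IsRegularLocalRing.of_ringEquiv e.toRingEquiv

theorem isStrictlyHenselian [HenselianLocalRing A] [IsSepClosed (ResidueField A)]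
    [IsLocalRing (integralClosure A (M (F := F) t))] :
    EtCoh.IsStrictlyHenselianLocalRing (integralClosure A (M (F := F) t)) := by
  obtain ⟨e, -⟩ := exists_equiv (F := F) hm hf hn ht
  have := Lib.Kummer.Alg.moduleFinite f n hn
  have : Module.Finite A (integralClosure A (M (F := F) t)) := Module.Finite.equiv e.toLinearEquiv
  have : IsIntegrallyClosed A := Groth.Agent.Lib.Regular.UFD.isIntegrallyClosed A
  have : FaithfulSMul A (integralClosure A (M (F := F) t)) :=
    (faithfulSMul_iff_algebraMap_injective _ _).2 (Val.injective_integralClosure _)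
  have : Algebra.IsIntegral A (integralClosure A (M (F := F) t)) := Algebra.IsIntegral.of_finite A _
  have : IsLocalHom (algebraMap A (integralClosure A (M (F := F) t))) := Algebra.IsIntegral.isLocalHom _ _
  exact Groth.Agent.S14620.result (algebraMap A (integralClosure A (M (F := F) t)))
    (RingHom.finite_algebraMap.2 inferInstance) ⟨inferInstance, inferInstance⟩

end Groth.Agent.Lib.Abhyankar.Kummer
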