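import Groth.Agent.Lib.Abhyankar.Basic
import Groth.Agent.Lib.Abhyankar.Kummer
import Groth.Agent.S0516
import Mathlib.FieldTheory.PurelyInseparable.Basic
import Mathlib.RingTheory.Ideal.KrullsHeightTheorem
import Mathlib.NumberTheory.Padics.PadicVal.Basic

/-!
Abhyankar's lemma over a strictly henselian regular local ring.
-/

set_option autoImplicit false
universe u

open IsLocalRing

namespace Groth.Agent.Lib.Abhyankar.Strict

/-- A finite unramified domain over a strictly henselian ring is a quotient. -/
theorem surjective_of_unramified {R S : Type u} [CommRing R] [HenselianLocalRing R]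
    [IsSepClosed (ResidueField R)] [CommRing S] [IsDomain S] [Algebra R S] [Module.Finite R S]
    [Algebra.Unramified R S] : Function.Surjective (algebraMap R S) := by
  classical
  obtain ⟨ι, _, As, _, _, B, _, _, hsurj, hB, ⟨e⟩⟩ := Groth.Agent.S0516.result R S
  have : Module.Finite R B := Module.Finite.of_surjective
    ((LinearMap.snd R (∀ i, As i) B).comp e.toLinearMap)
    (Prod.snd_surjective.comp e.surjective)
  have hB0 : Subsingleton B := by
    have h : (⊤ : Submodule R B) ≤ maximalIdeal R • ⊤ := by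
      rw [Ideal.smul_top_eq_map, hB, Submodule.restrictScalars_top]
    have := Submodule.eq_bot_of_le_smul_of_le_jacobson_bot _ _ Module.Finite.fg_top h
      (maximalIdeal_le_jacobson _)
    exact (Submodule.subsingleton_iff R).1 (subsingleton_of_bot_eq_top this.symm)
  have : IsDomain ((∀ i, As i) × B) := e.symm.toRingEquiv.toMulEquiv.isDomain _
  obtain ⟨i₀, hi₀⟩ : ∃ i, (1 : As i) ≠ 0 := by
    by_contra! h
    exact one_ne_zero (α := (∀ i, As i) × B) (Prod.ext (funext h) (Subsingleton.elim _ _))
  have hothers : ∀ i, i ≠ i₀ → Subsingleton (As i) := fun i hi => by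
    by_contra hne
    rw [not_subsingleton_iff_nontrivial] at hne
    rcases mul_eq_zero.1 (show ((Pi.single i 1, 0) : (∀ i, As i) × B) * (Pi.single i₀ 1, 0) = 0 by
      refine Prod.ext (funext fun j => ?_) (mul_zero _)
      show Pi.single i (1 : As i) j * Pi.single i₀ (1 : As i₀) j = 0
      rcases eq_or_ne j i with rfl | hj
      · rw [Pi.single_eq_of_ne hi, mul_zero]
      · rw [Pi.single_eq_of_ne hj, zero_mul]) with h | h
    · exact one_ne_zero (α := As i) (by
        have := congrFun (congrArg Prod.fst h) i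
        simpa using this)
    · exact hi₀ (by
        have := congrFun (congrArg Prod.fst h) i₀
        simpa using this)
  intro s
  obtain ⟨c, hc⟩ := hsurj i₀ ((e s).1 i₀)
  refine ⟨c, e.injective ?_⟩
  rw [e.commutes]
  refine Prod.ext (funext fun i => ?_) (Subsingleton.elim _ _)
  rcases eq_or_ne i i₀ with rfl | hi
  · exact hc
  · exact @Subsingleton.elim _ (hothers i hi) _ _

variable {A : Type u} [CommRing A] [IsDomain A] [IsRegularLocalRing A] [IsIntegrallyClosed A]
  {F : Type u} [Field F] [Algebra A F] [IsFractionRing A F]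
  {Ω : Type u} [Field Ω] [Algebra F Ω] [Algebra A Ω] [IsScalarTower A F Ω]
  {r : ℕ} {f : Fin r → A} [∀ i, (Ideal.span {f i}).IsPrime]
  (hm : ∀ i, f i ∈ maximalIdeal A)
  (hf : LinearIndependent (ResidueField A) (fun i => (maximalIdeal A).toCotangent ⟨f i, hm i⟩))

include hm hf

theorem ne_zero (i : Fin r) : f i ≠ 0 := fun h0 => hf.ne_zero i (by
  have : (⟨f i, hm i⟩ : maximalIdeal A) = 0 := Subtype.ext h0
  rw [this, map_zero])

/-- A tame extension embeds into the field of a large enough Kummer extension. -/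
theorem le_kummer [HenselianLocalRing A] [IsSepClosed (ResidueField A)] (n : Fin r → ℕ)
    (hn : ∀ i, 1 ≤ n i) (hnF : ∀ i, (n i : F) ≠ 0) (t : Fin r → Ω)
    (ht : ∀ i, t i ^ n i = algebraMap A Ω (f i)) (L : IntermediateField F Ω) [FiniteDimensional F L]
    [Algebra.IsSeparable F L] (hL : Basic.Good f n L) : L ≤ Kummer.M t := by
  have hf0 := ne_zero hm hf
  let M' : IntermediateField F Ω := Kummer.M t
  have : FiniteDimensional F M' := Kummer.finiteDimensional hn ht
  have : Algebra.IsSeparable F M' := Kummer.isSeparable hnF hf0 ht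
  let G : IntermediateField F Ω := L ⊔ M'
  have : Algebra.IsSeparable F G := inferInstanceAs (Algebra.IsSeparable F (L ⊔ M' : IntermediateField F Ω))
  have : FiniteDimensional F G := IntermediateField.finiteDimensional_sup L M'
  let B := integralClosure A M'
  let C := integralClosure A G
  have : IsRegularLocalRing B := Kummer.isRegularLocalRing hm hf hn ht
  have hh := Kummer.isStrictlyHenselian (F := F) (t := t) hm hf hn ht
  obtain ⟨_, _⟩ := hh
  let _ := (Val.inc (A := A) (le_sup_right : M' ≤ G)).toAlgebra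
  have : IsScalarTower A B C :=
    IsScalarTower.of_algebraMap_eq fun a => ((Val.inc (A := A) (le_sup_right : M' ≤ G)).commutes a).symm
  have : Algebra.Etale B C := Basic.etale_sup f hf0 n hn L M' hL fun i => ⟨t i, Kummer.mem_M t i, ht i⟩
  have : Module.Finite A C := IsIntegralClosure.finite A F G C
  have : Module.Finite B C := Module.Finite.of_restrictScalars_finite A B C
  have hs := surjective_of_unramified (R := B) (S := C)
  have : IsFractionRing C G := integralClosure.isFractionRing_of_finite_extension F G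
  intro x hx
  obtain ⟨a, b, -, hab⟩ := IsFractionRing.div_surjective (A := C) (⟨x, (le_sup_left : L ≤ G) hx⟩ : G)
  obtain ⟨a', rfl⟩ := hs a
  obtain ⟨b', rfl⟩ := hs b
  rw [show x = ((a' : M') : Ω) / ((b' : M') : Ω) from (congrArg Subtype.val hab).symm]
  exact div_mem (a' : M').2 (b' : M').2

/-- The wild part of the orders is superfluous. -/
theorem le_kummer_prime (p : ℕ) [Fact p.Prime] (hp : (p : A) ∈ maximalIdeal A) (hp0 : (p : A) ≠ 0)
    (m k : Fin r → ℕ) (hm1 : ∀ i, 1 ≤ m i)
    (hk : ∀ i, k i ≠ 0 → (p : A) ∉ Ideal.span {f i}) (hnF : ∀ i, (p ^ k i * m i : ℕ) ≠ (0 : F))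
    (t : Fin r → Ω) (ht : ∀ i, t i ^ (p ^ k i * m i) = algebraMap A Ω (f i))
    (L : IntermediateField F Ω) [FiniteDimensional F L] [Algebra.IsSeparable F L]
    (hL : Basic.Good f (fun i => p ^ k i * m i) L) (hLM : L ≤ Kummer.M t) :
    L ≤ Kummer.M (fun i => t i ^ p ^ k i) := by
  classical
  have hf0 := ne_zero hm hf
  have hp' := (Fact.out : p.Prime)
  let n : Fin r → ℕ := fun i => p ^ k i * m i
  have hn : ∀ i, 1 ≤ n i := fun i => Nat.one_le_iff_ne_zero.2 (mul_ne_zero (pow_ne_zero _ hp'.ne_zero) (by have := hm1 i; omega))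
  let s : Fin r → Ω := fun i => t i ^ p ^ k i
  have hs : ∀ i, s i ^ m i = algebraMap A Ω (f i) := fun i => by rw [← pow_mul]; exact ht i
  let T : IntermediateField F Ω := Kummer.M t
  let E : IntermediateField F Ω := Kummer.M s
  have hET : E ≤ T := IntermediateField.adjoin_le_iff.2 (by
    rintro _ ⟨i, rfl⟩; exact pow_mem (Kummer.mem_M t i) _)
  let G : IntermediateField F Ω := L ⊔ E
  have hGT : G ≤ T := sup_le hLM hET
  have hEG : E ≤ G := le_sup_right
  have : FiniteDimensional F T := Kummer.finiteDimensional hn ht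
  have : Algebra.IsSeparable F T := Kummer.isSeparable hnF hf0 ht
  have : FiniteDimensional F E := Groth.Agent.H48.Abhy.fin_le hET
  have : FiniteDimensional F G := Groth.Agent.H48.Abhy.fin_le hGT
  have : Algebra.IsSeparable F G := Algebra.IsSeparable.of_algHom F T (IntermediateField.inclusion hGT)
  have : Algebra.IsSeparable F (L ⊔ E : IntermediateField F Ω) := ‹Algebra.IsSeparable F G›
  let B := integralClosure A E
  let C := integralClosure A G
  let D := integralClosure A T
  have : IsRegularLocalRing B := Kummer.isRegularLocalRing hm hf hm1 hs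
  let _ : Algebra B C := (Val.inc (A := A) hEG).toAlgebra
  let _ : Algebra C D := (Val.inc (A := A) hGT).toAlgebra
  let _ : Algebra B D := ((algebraMap C D).comp (algebraMap B C)).toAlgebra
  have : IsScalarTower B C D := IsScalarTower.of_algebraMap_eq fun _ => rfl
  have : IsScalarTower A B C := IsScalarTower.of_algebraMap_eq fun a => ((Val.inc (A := A) hEG).commutes a).symm
  have : IsScalarTower A C D := IsScalarTower.of_algebraMap_eq fun a => ((Val.inc (A := A) hGT).commutes a).symm
  have : Module.Finite A C := IsIntegralClosure.finite A F G C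
  have : Module.Finite A D := IsIntegralClosure.finite A F T D
  have : Module.Finite B C := Module.Finite.of_restrictScalars_finite A B C
  have : Module.Finite C D := Module.Finite.of_restrictScalars_finite A C D
  have : Algebra.IsIntegral C D := Algebra.IsIntegral.of_finite C D
  have : Algebra.IsIntegral B C := Algebra.IsIntegral.of_finite B C
  have hinjCD : Function.Injective (algebraMap C D) := fun a b hab =>
    Subtype.ext ((IntermediateField.inclusion hGT).toRingHom.injective (congrArg Subtype.val hab))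
  have : FaithfulSMul C D := (faithfulSMul_iff_algebraMap_injective _ _).2 hinjCD
  have : FaithfulSMul A B := (faithfulSMul_iff_algebraMap_injective _ _).2 (Val.injective_integralClosure E)
  have : Module.Finite A B := by
    have : Algebra.IsSeparable F E := Algebra.IsSeparable.of_algHom F T (IntermediateField.inclusion hET)
    exact IsIntegralClosure.finite A F E B
  have : Algebra.IsIntegral A B := Algebra.IsIntegral.of_finite A B
  have : Module.Flat A B := Groth.Agent.Lib.WildCoprod.Basic.flat_of_regular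
  -- a height one prime containing `p`
  have hpB : algebraMap A B p ∈ maximalIdeal B := by
    have : IsLocalHom (algebraMap A B) := Algebra.IsIntegral.isLocalHom _ _
    exact map_nonunit _ _ hp
  obtain ⟨Q, hQmin, -⟩ := Ideal.exists_minimalPrimes_le (I := Ideal.span {algebraMap A B p})
    (J := maximalIdeal B) ((Ideal.span_singleton_le_iff_mem _).2 hpB)
  have : Q.IsPrime := hQmin.1.1
  have hpQ : algebraMap A B p ∈ Q := hQmin.1.2 (Ideal.mem_span_singleton_self _)
  have hQ1 : Q.height ≤ 1 := Ideal.height_le_one_of_isPrincipal_of_mem_minimalPrimes _ Q hQmin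
  let P := Q.under A
  have hpP : (p : A) ∈ P := hpQ
  have hP0 : P ≠ ⊥ := fun h => hp0 (by simpa [h] using hpP)
  have hP1 : P.height ≤ 1 := (Groth.Agent.Lib.Dim.Integral.height_eq_height_under (R := A) Q).ge.trans hQ1
  have hover : ∀ q : Ideal C, q.comap (algebraMap B C) = Q → q.comap (algebraMap A C) = P := fun q hq => by
    rw [IsScalarTower.algebraMap_eq A B C, ← Ideal.comap_comap, hq]
  have hunr : ∀ q : Ideal C, [q.IsPrime] → q.comap (algebraMap B C) = Q → Algebra.IsUnramifiedAt B q := by
    intro q _ hq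
    refine Basic.unramifiedAt_sup f hf0 n hn L E hL q (hover q hq ▸ hP0) (hover q hq ▸ hP1) fun i hi => ?_
    rw [hover q hq] at hi
    have hk0 : k i = 0 := by
      by_contra hne
      exact hk i hne (Basic.eq_span_of_mem (hf0 i) hi hP1 ▸ hpP)
    refine ⟨s i, Kummer.mem_M s i, ?_⟩
    show s i ^ (p ^ k i * m i) = _
    rw [hk0, pow_zero, one_mul]; exact hs i
  -- everything is radicial modulo `p`
  obtain ⟨e, he⟩ := Kummer.exists_equiv (F := F) hm hf hn ht
  let N := ∑ i, k i
  have hrad : ∀ x : D, ∃ b : B, x ^ p ^ N - algebraMap B D b ∈ Ideal.span {(p : D)} := by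
    intro x
    obtain ⟨y, rfl⟩ := e.surjective x
    have hy : y ∈ Algebra.adjoin A (Set.range (Lib.Kummer.Alg.t f n)) :=
      Lib.Kummer.Alg.adjoin_eq_top f n ▸ Algebra.mem_top
    induction hy using Algebra.adjoin_induction with
    | mem y hy =>
      obtain ⟨i, rfl⟩ := hy
      have hmem : (⟨s i, Kummer.mem_M s i⟩ : E) ∈ integralClosure A E := by
        refine IsIntegral.of_pow (hm1 i) ?_
        rw [show (⟨s i, Kummer.mem_M s i⟩ : E) ^ m i = algebraMap A E (f i) from Subtype.ext (hs i)]
        exact isIntegral_algebraMap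
      refine ⟨⟨_, hmem⟩ ^ p ^ (N - k i), ?_⟩
      convert Submodule.zero_mem _
      rw [sub_eq_zero, map_pow]
      refine Subtype.ext (Subtype.ext ?_)
      push_cast
      show _ = s i ^ p ^ (N - k i)
      rw [he, ← pow_mul, ← pow_add, Nat.add_sub_cancel' (Finset.single_le_sum (fun j _ => Nat.zero_le (k j)) (Finset.mem_univ i))]
    | algebraMap a =>
      refine ⟨algebraMap A B a ^ p ^ N, ?_⟩
      rw [AlgEquiv.commutes, map_pow, show algebraMap B D (algebraMap A B a) = algebraMap A D a from ?_, sub_self]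
      · exact Submodule.zero_mem _
      · show algebraMap C D (algebraMap B C (algebraMap A B a)) = _
        rw [← IsScalarTower.algebraMap_apply A B C, ← IsScalarTower.algebraMap_apply A C D]
    | add y z _ _ hy hz =>
      obtain ⟨b, hb⟩ := hy
      obtain ⟨c, hc⟩ := hz
      obtain ⟨w, hw⟩ := exists_add_pow_prime_pow_eq hp' (e y) (e z) N
      refine ⟨b + c, ?_⟩
      rw [map_add e, hw, map_add, mul_assoc, mul_assoc]
      have : e y ^ p ^ N + e z ^ p ^ N + (p : D) * (e y * (e z * w)) - (algebraMap B D b + algebraMap B D c) =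
          (e y ^ p ^ N - algebraMap B D b) + (e z ^ p ^ N - algebraMap B D c) + (p : D) * (e y * (e z * w)) := by ring
      rw [this]
      exact add_mem (add_mem hb hc) (Ideal.mul_mem_right _ _ (Ideal.mem_span_singleton_self _))
    | mul y z _ _ hy hz =>
      obtain ⟨b, hb⟩ := hy
      obtain ⟨c, hc⟩ := hz
      refine ⟨b * c, ?_⟩
      rw [map_mul e, mul_pow, map_mul]
      have : e y ^ p ^ N * e z ^ p ^ N - algebraMap B D b * algebraMap B D c =
          (e y ^ p ^ N - algebraMap B D b) * e z ^ p ^ N + algebraMap B D b * (e z ^ p ^ N - algebraMap B D c) := by ring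
      rw [this]
      exact add_mem (Ideal.mul_mem_right _ _ hb) (Ideal.mul_mem_left _ _ hc)
  have hmemiff : ∀ (R : Ideal D), R.IsPrime → (R.comap (algebraMap C D)).comap (algebraMap B C) = Q →
      ∀ x : D, ∀ b : B, x ^ p ^ N - algebraMap B D b ∈ Ideal.span {(p : D)} → (x ∈ R ↔ b ∈ Q) := by
    intro R hR hRQ x b hb
    have hpR : (p : D) ∈ R := by
      have := hpQ
      rw [← hRQ, Ideal.mem_comap, Ideal.mem_comap, ← IsScalarTower.algebraMap_apply A B C,
        ← IsScalarTower.algebraMap_apply A C D, map_natCast] at this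
      exact this
    have hbR : x ^ p ^ N - algebraMap B D b ∈ R := (Ideal.span_singleton_le_iff_mem _).2 hpR hb
    refine (hR.pow_mem_iff_mem (p ^ N) (pow_pos hp'.pos N)).symm.trans ?_
    rw [← hRQ]
    exact ⟨fun h => by simpa using R.sub_mem h hbR, fun h => by rw [← sub_add_cancel (x ^ p ^ N) (algebraMap B D b)]; exact R.add_mem hbR h⟩
  obtain ⟨q, hqp, hqQ⟩ : ∃ q : Ideal C, q.IsPrime ∧ q.comap (algebraMap B C) = Q := by
    have : FaithfulSMul B C := (faithfulSMul_iff_algebraMap_injective _ _).2 fun a b hab =>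
      Subtype.ext ((IntermediateField.inclusion hEG).toRingHom.injective (congrArg Subtype.val hab))
    obtain ⟨q, hq1, hq2⟩ := Ideal.nonempty_primesOver (S := C) Q |>.some
    exact ⟨q, hq1, hq2.over.symm⟩
  obtain ⟨R, hR1, hR2⟩ := Ideal.nonempty_primesOver (S := D) q |>.some
  have hRq : R.comap (algebraMap C D) = q := hR2.over.symm
  have huniq : Q.primesOver C = {q} := by
    refine Set.eq_singleton_iff_unique_mem.2 ⟨⟨hqp, ⟨hqQ.symm⟩⟩, ?_⟩
    rintro q' ⟨hq'1, hq'2⟩
    obtain ⟨R', hR'1, hR'2⟩ := Ideal.nonempty_primesOver (S := D) q' |>.some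
    have hR'q : R'.comap (algebraMap C D) = q' := hR'2.over.symm
    have : R' = R := Ideal.ext fun x => by
      obtain ⟨b, hb⟩ := hrad x
      exact (hmemiff R' hR'1 (by rw [hR'q]; exact hq'2.over.symm) x b hb).trans
        (hmemiff R hR1 (by rw [hRq, hqQ]) x b hb).symm
    rw [← hR'q, this, hRq]
  have : q.LiesOver Q := ⟨hqQ.symm⟩
  have : Algebra.IsUnramifiedAt B q := hunr q hqQ
  let _ : Algebra (Localization.AtPrime Q) (Localization.AtPrime q) :=
    (Localization.localRingHom Q q (algebraMap B C) (q.over_def Q)).toAlgebra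
  have : Localization.AtPrime.IsLiesOverAlgebra Q q := ⟨rfl⟩
  have hres : Function.Surjective (algebraMap Q.ResidueField q.ResidueField) := by
    have hchar : CharP Q.ResidueField p := (CharP.charP_iff_prime_eq_zero hp').2 (by
      rw [← map_natCast (algebraMap B Q.ResidueField)]
      exact Ideal.algebraMap_residueField_eq_zero.2 (by rw [← map_natCast (algebraMap A B)]; exact hpQ))
    have : ExpChar Q.ResidueField p := ExpChar.prime hp'
    have hC : ∀ c : C, algebraMap C q.ResidueField c ^ p ^ N ∈
        (algebraMap Q.ResidueField q.ResidueField).fieldRange := by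
      intro c
      obtain ⟨b, hb⟩ := hrad (algebraMap C D c)
      refine ⟨algebraMap B Q.ResidueField b, ?_⟩
      have hpR : (p : D) ∈ R := by
        have := hpQ
        rw [← hqQ, Ideal.mem_comap, ← hRq, Ideal.mem_comap, ← IsScalarTower.algebraMap_apply A B C,
          ← IsScalarTower.algebraMap_apply A C D, map_natCast] at this
        exact this
      have h1 : c ^ p ^ N - algebraMap B C b ∈ q := by
        rw [← hRq, Ideal.mem_comap, map_sub, map_pow]
        exact (Ideal.span_singleton_le_iff_mem _).2 hpR hb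
      rw [← map_pow, ← IsScalarTower.algebraMap_apply B Q.ResidueField q.ResidueField,
        IsScalarTower.algebraMap_apply B C q.ResidueField, eq_comm, ← sub_eq_zero, ← map_sub]
      exact Ideal.algebraMap_residueField_eq_zero.2 h1
    have : IsPurelyInseparable Q.ResidueField q.ResidueField := by
      refine (isPurelyInseparable_iff_pow_mem Q.ResidueField p).2 fun y => ⟨N, ?_⟩
      obtain ⟨a, b, -, hab⟩ := IsFractionRing.div_surjective (A := C ⧸ q) y
      obtain ⟨a, rfl⟩ := Ideal.Quotient.mk_surjective a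
      obtain ⟨b, rfl⟩ := Ideal.Quotient.mk_surjective b
      rw [← hab, div_pow]
      exact (div_mem (hC a) (hC b) : _ ∈ (algebraMap Q.ResidueField q.ResidueField).fieldRange)
    exact IsPurelyInseparable.surjective_algebraMap_of_isSeparable Q.ResidueField q.ResidueField
  have hsurj := Localization.localRingHom_surjective_of_primesOver_eq_singleton huniq hres
  have : IsFractionRing C G := integralClosure.isFractionRing_of_finite_extension F G
  have hCE : ∀ c : C, ((c : G) : Ω) ∈ E := fun c => by
    obtain ⟨z, hz⟩ := hsurj (algebraMap C _ c)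
    obtain ⟨⟨a, d⟩, rfl⟩ := IsLocalization.mk'_surjective Q.primeCompl z
    rw [Localization.localRingHom_mk', IsLocalization.mk'_eq_iff_eq_mul, ← map_mul] at hz
    have := IsLocalization.injective (Localization.AtPrime q) (Ideal.primeCompl_le_nonZeroDivisors q) hz
    have hd : ((d : B) : E) ≠ 0 := fun h => d.2 (by
      rw [show (d : B) = 0 from Subtype.ext h]; exact Q.zero_mem)
    have hd' : (((d : B) : E) : Ω) ≠ 0 := fun h => hd (Subtype.ext h)
    have h2 : ((a : E) : Ω) = ((c : G) : Ω) * (((d : B) : E) : Ω) :=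
      congrArg (fun x : C => ((x : G) : Ω)) this
    rw [show ((c : G) : Ω) = ((a : E) : Ω) / (((d : B) : E) : Ω) from eq_div_of_mul_eq hd' h2.symm]
    exact div_mem (a : E).2 ((d : B) : E).2
  intro x hx
  obtain ⟨a, b, -, hab⟩ := IsFractionRing.div_surjective (A := C) (⟨x, (le_sup_left : L ≤ G) hx⟩ : G)
  rw [show x = ((a : G) : Ω) / ((b : G) : Ω) from (congrArg Subtype.val hab).symm]
  exact div_mem (hCE a) (hCE b)

/-- Abhyankar's lemma over a strictly henselian regular local ring. -/
theorem exists_le [HenselianLocalRing A] [IsSepClosed (ResidueField A)] [IsAlgClosed Ω] (n : Fin r → ℕ)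
    (hn : ∀ i, 1 ≤ n i) (hnP : ∀ i, (n i : A) ∉ Ideal.span {f i}) (L : IntermediateField F Ω)
    [FiniteDimensional F L] [Algebra.IsSeparable F L] (hL : Basic.Good f n L) :
    ∃ (m : Fin r → ℕ), (∀ i, 1 ≤ m i ∧ IsUnit ((m i : ℕ) : ResidueField A) ∧ m i ∣ n i) ∧
      ∃ t : Fin r → Ω, (∀ i, t i ^ m i = algebraMap A Ω (f i)) ∧ L ≤ Kummer.M t := by
  have hnF : ∀ i, (n i : F) ≠ 0 := fun i h => hnP i (by
    have : (n i : A) = 0 := IsFractionRing.injective A F (by rw [map_natCast, h, map_zero])
    rw [this]; exact Submodule.zero_mem _)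
  choose t ht using fun i => IsAlgClosed.exists_pow_nat_eq (algebraMap A Ω (f i)) (hn i)
  have h0 := le_kummer hm hf n hn hnF t ht L hL
  by_cases hu : ∀ i, IsUnit ((n i : ℕ) : ResidueField A)
  · exact ⟨n, fun i => ⟨hn i, hu i, dvd_rfl⟩, t, ht, h0⟩
  push Not at hu
  obtain ⟨i₀, hi₀⟩ := hu
  obtain ⟨p, hp⟩ := CharP.exists (ResidueField A)
  have hn0 : ((n i₀ : ℕ) : ResidueField A) = 0 := by simpa using hi₀
  have hpp : p.Prime := (CharP.char_is_prime_or_zero (ResidueField A) p).resolve_right (by
    rintro rfl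
    have := CharP.charP_to_charZero (ResidueField A)
    exact (Nat.cast_ne_zero.2 (by have := hn i₀; omega)) hn0)
  have := Fact.mk hpp
  have hpm : (p : A) ∈ maximalIdeal A := (residue_eq_zero_iff _).1 (by rw [map_natCast, CharP.cast_eq_zero])
  have hp0 : (p : A) ≠ 0 := fun h => hnP i₀ (by
    obtain ⟨c, hc⟩ := (CharP.cast_eq_zero_iff (ResidueField A) p _).1 hn0
    rw [hc, Nat.cast_mul, h, zero_mul]; exact Submodule.zero_mem _)
  let k : Fin r → ℕ := fun i => (n i).factorization p
  let m : Fin r → ℕ := fun i => n i / p ^ k i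
  have hkm : ∀ i, p ^ k i * m i = n i := fun i => Nat.ordProj_mul_ordCompl_eq_self (n i) p
  have hm1 : ∀ i, 1 ≤ m i := fun i => Nat.ordCompl_pos p (by have := hn i; omega)
  refine ⟨m, fun i => ⟨hm1 i, ?_, ⟨p ^ k i, by rw [mul_comm, hkm]⟩⟩, fun i => t i ^ p ^ k i, fun i => ?_, ?_⟩
  · rw [isUnit_iff_ne_zero, ne_eq, CharP.cast_eq_zero_iff (ResidueField A) p]
    exact Nat.not_dvd_ordCompl hpp (by have := hn i; omega)
  · rw [← pow_mul, hkm]; exact ht i
  refine le_kummer_prime hm hf p hpm hp0 m k hm1 (fun i hi hpi => hnP i ?_) (fun i => hkm i ▸ hnF i) t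
    (fun i => (hkm i).symm ▸ ht i) L ?_ h0
  · obtain ⟨c, hc⟩ := Nat.dvd_of_factorization_pos hi
    rw [hc, Nat.cast_mul]; exact Ideal.mul_mem_right _ _ hpi
  · rwa [show (fun i => p ^ k i * m i) = n from funext hkm]

end Groth.Agent.Lib.Abhyankar.Strict
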