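import Groth.Agent.Lib.Abhyankar.Exact
import Groth.Agent.Lib.Abhyankar.Strict
import Groth.Agent.Lib.Henselian.Unibranch
import Mathlib.RingTheory.Valuation.LocalSubring
import Mathlib.FieldTheory.IsAlgClosed.AlgebraicClosure

/-!
Regular tame covers of a strictly henselian regular local ring are Kummer covers.
-/

set_option autoImplicit false
universe u

open IsLocalRing EtRam
open scoped TensorProduct

namespace Groth.Agent.Lib.Abhyankar.Regular

open Groth.Agent.H48

section Basics

variable {A : Type u} [CommRing A] [IsDomain A] [IsNoetherianRing A] [IsIntegrallyClosed A]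
  {F : Type u} [Field F] [Algebra A F] [IsFractionRing A F]
  {Ω : Type u} [Field Ω] [Algebra F Ω] [Algebra A Ω] [IsScalarTower A F Ω]

omit [IsNoetherianRing A] [IsIntegrallyClosed A] in
/-- Every prime is the centre of a valuation ring. -/
theorem exists_centred (hinj : Function.Injective (algebraMap A Ω)) (P : Ideal A) [P.IsPrime] :
    ∃ W : ValuationSubring Ω, Val.Centred A W P := by
  let ψ : Localization.AtPrime P →+* Ω := IsLocalization.lift (M := P.primeCompl) (g := algebraMap A Ω)
    fun y => isUnit_iff_ne_zero.2 ((map_ne_zero_iff _ hinj).2 fun e => y.2 (e ▸ P.zero_mem))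
  obtain ⟨W, hW, hloc⟩ := IsLocalRing.exists_factor_valuationRing ψ
  have hψ : ∀ a, ψ (algebraMap A _ a) = algebraMap A Ω a := fun a => IsLocalization.lift_eq _ a
  refine ⟨W, fun a => hψ a ▸ hW _, fun a => ?_⟩
  rw [← hψ, ← IsLocalization.AtPrime.to_map_mem_maximal_iff (Localization.AtPrime P) P a, mem_maximalIdeal,
    mem_nonunits_iff, ← isUnit_map_iff (ψ.codRestrict W.toSubring hW)]
  exact (ValuationSubring.valuation_lt_one_iff W (ψ.codRestrict W.toSubring hW (algebraMap A _ a))).symm.trans
    ((mem_maximalIdeal _).trans mem_nonunits_iff)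

omit [IsNoetherianRing A] [IsIntegrallyClosed A] in
/-- The index only depends on the traces. -/
theorem e_congr {W W' : ValuationSubring Ω} {E G : IntermediateField F Ω} (h : E ≤ G)
    (hG : Abhy.V W G = Abhy.V W' G) : Abhy.e W h = Abhy.e W' h := by
  have hE : Abhy.V W E = Abhy.V W' E := by
    ext x
    exact SetLike.ext_iff.1 hG (IntermediateField.inclusion h x)
  have key : ∀ (VE VE' : ValuationSubring E) (VG VG' : ValuationSubring G), VE = VE' → VG = VG' →
      ∀ (g : VE →+* VG) (g' : VE' →+* VG'), (∀ (x : VE) (x' : VE'), (x : E) = x' → (g x : G) = g' x') →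
      (letI := g.toAlgebra; Ideal.ramificationIdx' (maximalIdeal VE) (maximalIdeal VG)) =
      (letI := g'.toAlgebra; Ideal.ramificationIdx' (maximalIdeal VE') (maximalIdeal VG')) := by
    rintro VE _ VG _ rfl rfl g g' hg
    obtain rfl : g = g' := RingHom.ext fun x => Subtype.ext (hg x x rfl)
    rfl
  exact key _ _ _ _ hE hG (Abhy.res W h) (Abhy.res W' h) fun x x' hx => by
    show IntermediateField.inclusion h (x : E) = IntermediateField.inclusion h (x' : E)
    rw [hx]

omit [IsDomain A] [IsNoetherianRing A] [IsIntegrallyClosed A] [IsFractionRing A F] in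
/-- A field generated by `t` is generated by fractions of `A` and by `t`. -/
theorem closure_eq_top {r : ℕ} (t : Fin r → Ω) [IsFractionRing A F] {R : Type*} [CommRing R] [Algebra A R]
    (g : R →+* Kummer.M (F := F) t) (hg : ∀ a, g (algebraMap A R a) = algebraMap A _ a) :
    Subfield.closure (Set.range g ∪ Set.range fun i => (⟨t i, Kummer.mem_M t i⟩ : Kummer.M (F := F) t)) = ⊤ := by
  let M' := Kummer.M (F := F) t
  let T := Subfield.closure (Set.range g ∪ Set.range fun i => (⟨t i, Kummer.mem_M t i⟩ : M'))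
  have hA : ∀ a, algebraMap A M' a ∈ T := fun a => Subfield.subset_closure (Or.inl ⟨_, hg a⟩)
  have hF : ∀ k, algebraMap F M' k ∈ T := fun k => by
    obtain ⟨a, b, -, rfl⟩ := IsFractionRing.div_surjective (A := A) k
    rw [map_div₀, ← IsScalarTower.algebraMap_apply A F M', ← IsScalarTower.algebraMap_apply A F M']
    exact div_mem (hA a) (hA b)
  refine eq_top_iff.2 fun x _ => ?_
  let T' : IntermediateField F Ω := Subfield.toIntermediateField (T.map M'.val.toRingHom)
    fun k => ⟨algebraMap F M' k, hF k, rfl⟩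
  have : M' ≤ T' := IntermediateField.adjoin_le_iff.2 (by
    rintro _ ⟨i, rfl⟩
    exact ⟨⟨t i, Kummer.mem_M t i⟩, Subfield.subset_closure (Or.inr ⟨i, rfl⟩), rfl⟩)
  obtain ⟨y, hy, hyx⟩ := this x.2
  exact (show y = x from Subtype.ext hyx) ▸ hy

end Basics

variable {A : Type u} [CommRing A] [IsDomain A] [IsRegularLocalRing A] [IsIntegrallyClosed A]
  {r : ℕ} {f : Fin r → A} [∀ i, (Ideal.span {f i}).IsPrime] (hm : ∀ i, f i ∈ maximalIdeal A)
  (hf : LinearIndependent (ResidueField A) (fun i => (maximalIdeal A).toCotangent ⟨f i, hm i⟩))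

include hm hf

/-- A Kummer field is good for some orders. -/
theorem exists_good_kummer {F : Type u} [Field F] [Algebra A F] [IsFractionRing A F]
    {Ω : Type u} [Field Ω] [Algebra F Ω] [Algebra A Ω] [IsScalarTower A F Ω]
    {n : Fin r → ℕ} (hn : ∀ i, 1 ≤ n i) (hu : ∀ i, IsUnit (n i : A)) {t : Fin r → Ω}
    (ht : ∀ i, t i ^ n i = algebraMap A Ω (f i)) :
    ∃ n' : Fin r → ℕ, Basic.Good f n' (Kummer.M (F := F) t) := by
  classical
  have hf0 := Strict.ne_zero hm hf
  have hF0 : (∏ i, f i) ≠ 0 := Finset.prod_ne_zero_iff.2 fun i _ => hf0 i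
  let M' := Kummer.M (F := F) t
  have : FiniteDimensional F M' := Kummer.finiteDimensional hn ht
  let K := Lib.Kummer.Alg.K f n
  have : Module.Finite A K := Lib.Kummer.Alg.moduleFinite f n hn
  have hc : ∀ i, (⟨t i, Kummer.mem_M t i⟩ : M') ^ n i = algebraMap A M' (f i) := fun i => Subtype.ext (ht i)
  let ψ : K →ₐ[A] M' := Lib.Kummer.Alg.desc f n (fun i => ⟨t i, Kummer.mem_M t i⟩) hc
  have hAM : Function.Injective (algebraMap A M') := by
    rw [IsScalarTower.algebraMap_eq A F M']
    exact (algebraMap F M').injective.comp (IsFractionRing.injective A F)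
  let Af := Localization.Away (∏ i, f i)
  let Kg := Localization.Away (algebraMap A K (∏ i, f i))
  let _ : Algebra Af Kg := (IsLocalization.Away.lift (S := Af) (∏ i, f i) (show IsUnit (algebraMap A Kg (∏ i, f i)) by
    rw [IsScalarTower.algebraMap_apply A K Kg]; exact IsLocalization.Away.algebraMap_isUnit _)).toAlgebra
  have : IsScalarTower A Af Kg := IsScalarTower.of_algebraMap_eq fun a =>
    (IsLocalization.Away.lift_eq (S := Af) (∏ i, f i) _ a).symm
  have hfu : ∀ i, IsUnit (algebraMap A Af (f i)) := fun i =>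
    isUnit_of_dvd_unit (map_dvd _ (Finset.dvd_prod_of_mem f (Finset.mem_univ i)))
      (IsLocalization.Away.algebraMap_isUnit _)
  have : Algebra.Etale Af Kg := Lib.Kummer.Alg.etale f n (∏ i, f i) Af Kg (fun i => (hu i).map _) hfu hn
  have : IsLocalization (Algebra.algebraMapSubmonoid K (Submonoid.powers (∏ i, f i))) Kg := by
    rw [Algebra.algebraMapSubmonoid, Submonoid.map_powers]; infer_instance
  have : Module.Finite Af Kg :=
    Module.Finite.of_isLocalization (R := A) (S := K) (Rₚ := Af) (Sₚ := Kg) (Submonoid.powers (∏ i, f i))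
  have hψu : IsUnit (ψ.toRingHom (algebraMap A K (∏ i, f i))) :=
    (ψ.commutes (∏ i, f i)).symm ▸ isUnit_iff_ne_zero.2 ((map_ne_zero_iff _ hAM).2 hF0)
  let σ : Kg →ₐ[A] M' :=
    { IsLocalization.Away.lift (S := Kg) (g := ψ.toRingHom) (algebraMap A K (∏ i, f i))
        hψu with
      commutes' := fun a => by
        rw [IsScalarTower.algebraMap_apply A K Kg]
        exact (IsLocalization.Away.lift_eq (S := Kg) (algebraMap A K (∏ i, f i)) hψu _).trans (ψ.commutes a) }
  have hσK : ∀ k, σ (algebraMap K Kg k) = ψ k := fun k => IsLocalization.Away.lift_eq (S := Kg) (algebraMap A K (∏ i, f i)) hψu k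
  have hσ : Subfield.closure (Set.range σ) = ⊤ := by
    refine top_unique ((closure_eq_top (A := A) t (σ : Kg →+* M') σ.commutes) ▸ Subfield.closure_mono ?_)
    refine Set.union_subset subset_rfl ?_
    rintro _ ⟨i, rfl⟩
    exact ⟨algebraMap K Kg (Lib.Kummer.Alg.t f n i), (hσK _).trans (Lib.Kummer.Alg.desc_t f n _ hc i)⟩
  suffices htM : ∀ (i : Fin r) (g : Localization.AtPrime (Ideal.span {f i}) →+* M'),
      (∀ a, g (algebraMap A _ a) = algebraMap A M' a) →
        IsTamelyRamified (Localization.AtPrime (Ideal.span {f i})) g by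
    obtain ⟨n', -, h⟩ := Field.exists_good (F := F) (Ω := Ω) f hf0 Kg M' σ hσ htM M'.val
    rw [M'.fieldRange_val] at h
    exact ⟨n', h⟩
  intro i g hg
  let P : Ideal A := Ideal.span {f i}
  let R := Localization.AtPrime P
  have hginj : Function.Injective g := by
    refine (injective_iff_map_eq_zero g).2 fun x hx => ?_
    obtain ⟨⟨a, s⟩, ha⟩ := IsLocalization.surj P.primeCompl x
    have hga := congrArg g ha
    rw [map_mul, hx, zero_mul, hg] at hga
    have ha0 : a = 0 := hAM (hga.symm.trans (map_zero _).symm)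
    simp only [ha0, map_zero] at ha
    exact (IsUnit.mul_left_eq_zero (IsLocalization.map_units R s)).1 ha
  have hnotmem : ∀ j, j ≠ i → f j ∉ P := by
    intro j hj hmem
    obtain ⟨a, ha⟩ := Ideal.mem_span_singleton'.1 hmem
    refine hf.notMem_span_image (s := {i}) (x := j) (by simpa using hj) ?_
    rw [show (⟨f j, hm j⟩ : maximalIdeal A) = a • ⟨f i, hm i⟩ from Subtype.ext ha.symm, map_smul,
      Set.image_singleton]
    exact Submodule.smul_mem _ (residue A a) (Submodule.mem_span_singleton_self _)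
  refine Groth.Agent.Lib.Kummer.Tame.isTamelyRamified hginj (algebraMap A R (f i)) ?_ ?_
    (fun j => (⟨t j, Kummer.mem_M t j⟩ : M')) (fun j => algebraMap A R (f j)) n i hn
    (fun j => ?_) (fun j hj => IsLocalization.map_units R (⟨f j, hnotmem j hj⟩ : P.primeCompl)) rfl (fun j => ?_) ?_
  · intro h
    exact hf0 i (IsLocalization.injective R P.primeCompl_le_nonZeroDivisors (h.trans (map_zero _).symm))
  · rw [← Localization.AtPrime.map_eq_maximalIdeal, Ideal.map_span, Set.image_singleton]
  · rw [← map_natCast (algebraMap A R)]; exact (hu j).map _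
  · rw [hg]; exact hc j
  · exact closure_eq_top (A := A) t g hg

/-- A regular tame cover is a Kummer cover. -/
theorem exists_equiv [HenselianLocalRing A] [IsSepClosed (ResidueField A)] (B : Type u) [CommRing B]
    [IsDomain B] [Algebra A B] [Module.Finite A B] [Module.Free A B]
    (hreg : ∀ (q : Ideal B) [q.IsPrime], IsRegularLocalRing (Localization.AtPrime q))
    [Algebra.Etale (Localization.Away (∏ i, f i)) (Localization.Away (∏ i, f i) ⊗[A] B)]
    (htame : SGA1.IsTameAlong f (algebraMap A B)) :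
    ∃ n : Fin r → ℕ, (∀ i, 1 ≤ n i) ∧ (∀ i, IsUnit ((n i : ℕ) : ResidueField A)) ∧
      Nonempty (B ≃ₐ[A] SGA1.kummerAlg A f n) := by
  classical
  have hf0 := Strict.ne_zero hm hf
  have hF0 : (∏ i, f i) ≠ 0 := Finset.prod_ne_zero_iff.2 fun i _ => hf0 i
  have hAB : Function.Injective (algebraMap A B) := FaithfulSMul.algebraMap_injective A B
  have : Algebra.IsIntegral A B := Algebra.IsIntegral.of_finite A B
  have : IsLocalRing B := Groth.Agent.Lib.Henselian.Unibranch.isLocalRing_of_isDomain A B
  have : IsRegularLocalRing B := by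
    have := hreg (maximalIdeal B)
    exact IsRegularLocalRing.of_ringEquiv (IsLocalization.atUnits B (maximalIdeal B).primeCompl
      (S := Localization.AtPrime (maximalIdeal B))
      (fun x hx => by simpa [Ideal.primeCompl, mem_nonunits_iff, IsUnit.mem_submonoid_iff] using hx)).toRingEquiv.symm
  have : IsIntegrallyClosed B := Groth.Agent.Lib.Regular.UFD.isIntegrallyClosed B
  let q : Ideal B := ⊥
  have hqp : q.IsPrime := Ideal.isPrime_bot
  have hq : Ideal.comap (algebraMap A B) q = ⊥ := Ideal.comap_bot_of_injective _ hAB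
  let L₀ := q.ResidueField
  have hBL : Function.Injective (algebraMap B L₀) := by
    rw [injective_iff_map_eq_zero]
    exact fun x hx => Ideal.algebraMap_residueField_eq_zero.1 hx
  have : FaithfulSMul B L₀ := (faithfulSMul_iff_algebraMap_injective _ _).2 hBL
  have : IsFractionRing B L₀ := IsFractionRing.of_field B L₀ fun y => by
    obtain ⟨a, b, -, hab⟩ := IsFractionRing.div_surjective (A := B ⧸ q) y
    obtain ⟨a, rfl⟩ := Ideal.Quotient.mk_surjective a
    obtain ⟨b, rfl⟩ := Ideal.Quotient.mk_surjective b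
    rw [Ideal.algebraMap_quotient_residueField_mk, Ideal.algebraMap_quotient_residueField_mk] at hab
    exact ⟨a, b, hab.symm⟩
  let F := FractionRing A
  have hAL : Function.Injective (algebraMap A L₀) := by
    rw [IsScalarTower.algebraMap_eq A B L₀]; exact hBL.comp hAB
  let _ : Algebra F L₀ := (IsFractionRing.lift hAL).toAlgebra
  have : IsScalarTower A F L₀ := IsScalarTower.of_algebraMap_eq fun a =>
    (IsFractionRing.lift_algebraMap hAL a).symm
  have : Module.Finite F L₀ := Module.Finite.of_isLocalization A B (Rₚ := F) (Sₚ := L₀) (nonZeroDivisors A)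
  let Af := Localization.Away (∏ i, f i)
  have hFu : IsUnit (algebraMap A L₀ (∏ i, f i)) := isUnit_iff_ne_zero.2 ((map_ne_zero_iff _ hAL).2 hF0)
  let gA : Af →ₐ[A] L₀ :=
    { IsLocalization.Away.lift (S := Af) (∏ i, f i) hFu with
      commutes' := fun a => IsLocalization.Away.lift_eq (S := Af) (∏ i, f i) hFu a }
  let σ : Af ⊗[A] B →ₐ[A] L₀ :=
    Algebra.TensorProduct.lift gA (IsScalarTower.toAlgHom A B L₀) fun _ _ => Commute.all _ _
  have hσB : ∀ b, σ (1 ⊗ₜ b) = algebraMap B L₀ b := fun b => by
    show Algebra.TensorProduct.lift gA _ _ (1 ⊗ₜ b) = _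
    rw [Algebra.TensorProduct.lift_tmul, map_one, one_mul]; rfl
  have hσ : Subfield.closure (Set.range σ) = ⊤ := eq_top_iff.2 fun y _ => by
    obtain ⟨a, b, -, rfl⟩ := IsFractionRing.div_surjective (A := B) y
    exact div_mem (Subfield.subset_closure ⟨_, hσB a⟩) (Subfield.subset_closure ⟨_, hσB b⟩)
  have htt : ∀ (i : Fin r) (g : Localization.AtPrime (Ideal.span {f i}) →+* L₀),
      (∀ a, g (algebraMap A _ a) = algebraMap A L₀ a) →
        IsTamelyRamified (Localization.AtPrime (Ideal.span {f i})) g := fun i g hg => by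
    convert htame i q hq using 1
    refine IsLocalization.ringHom_ext (Ideal.span {f i}).primeCompl (RingHom.ext fun a => ?_)
    simp only [RingHom.comp_apply, SGA1.genericResidueMap, IsLocalization.lift_eq, hg]
    exact IsScalarTower.algebraMap_apply A B L₀ a
  let Ω := AlgebraicClosure F
  have hsep : Algebra.IsSeparable F L₀ := by
    let _ : Algebra Af F := (IsLocalization.Away.lift (S := Af) (∏ i, f i)
      (g := algebraMap A F) (isUnit_iff_ne_zero.2 ((map_ne_zero_iff _ (IsFractionRing.injective A F)).2 hF0))).toAlgebra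
    have : IsScalarTower A Af F := IsScalarTower.of_algebraMap_eq fun a =>
      (IsLocalization.Away.lift_eq (S := Af) (∏ i, f i) _ a).symm
    let θ₀ : F ⊗[A] B →ₐ[F] L₀ :=
      Algebra.TensorProduct.lift (Algebra.ofId F L₀) (IsScalarTower.toAlgHom A B L₀) fun _ _ => Commute.all _ _
    have hθ₀ : ∀ (a : F) (b : B), θ₀ (a ⊗ₜ b) = algebraMap F L₀ a * algebraMap B L₀ b := fun a b =>
      Algebra.TensorProduct.lift_tmul _ _ _ a b
    let θ : F ⊗[Af] (Af ⊗[A] B) →ₐ[F] L₀ :=
      θ₀.comp (Algebra.TensorProduct.cancelBaseChange A Af F F B).toAlgHom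
    have hθ : Function.Surjective θ := by
      refine Function.Surjective.comp (g := θ₀) (fun y => ?_) (Algebra.TensorProduct.cancelBaseChange A Af F F B).surjective
      obtain ⟨⟨b, s⟩, hbs⟩ := IsLocalization.surj (Algebra.algebraMapSubmonoid B (nonZeroDivisors A)) (S := L₀) y
      obtain ⟨s', hs', hss⟩ := s.2
      refine ⟨(algebraMap A F s')⁻¹ ⊗ₜ b, ?_⟩
      rw [hθ₀]
      rw [← hbs, map_inv₀, ← IsScalarTower.algebraMap_apply A F L₀, show (s : B) = algebraMap A B s' from hss.symm,
        ← IsScalarTower.algebraMap_apply A B L₀, mul_comm y, inv_mul_cancel_left₀]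
      exact (map_ne_zero_iff _ hAL).2 (nonZeroDivisors.ne_zero hs')
    have hfu : Algebra.FormallyUnramified F (F ⊗[Af] (Af ⊗[A] B)) := inferInstance
    have : Algebra.FormallyUnramified F L₀ := @Algebra.FormallyUnramified.of_surjective F _ (F ⊗[Af] (Af ⊗[A] B)) L₀ _ _ _ _ hfu θ hθ
    exact Algebra.FormallyUnramified.isSeparable F L₀
  let ι : L₀ →ₐ[F] Ω := IsAlgClosed.lift
  obtain ⟨n₀, hn₀, hgood⟩ := Field.exists_good (F := F) (Ω := Ω) f hf0 (Af ⊗[A] B) L₀ σ hσ htt ι
  let L : IntermediateField F Ω := ι.fieldRange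
  have : FiniteDimensional F L := ι.toLinearMap.finiteDimensional_range
  have : Algebra.IsSeparable F L := AlgEquiv.Algebra.isSeparable (AlgEquiv.ofInjectiveField ι)
  obtain ⟨n, hn, t, ht, hle⟩ := Strict.exists_le hm hf n₀ (fun i => (hn₀ i).1) (fun i => (hn₀ i).2) L hgood
  have hn1 : ∀ i, 1 ≤ n i := fun i => (hn i).1
  -- the exact orders
  have hAΩ : Function.Injective (algebraMap A Ω) := by
    rw [IsScalarTower.algebraMap_eq A F Ω]
    exact (algebraMap F Ω).injective.comp (IsFractionRing.injective A F)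
  choose Wi hWi using fun i => exists_centred hAΩ (Ideal.span {f i})
  let k : Fin r → ℕ := fun i => Abhy.e (Wi i) (bot_le : ⊥ ≤ L)
  have hP1 : ∀ i, (Ideal.span {f i}).height ≤ 1 := fun i =>
    Ideal.height_le_one_of_isPrincipal_of_mem_minimalPrimes (Ideal.span {f i}) _
      (by rw [Ideal.minimalPrimes_eq_subsingleton_self]; exact Set.mem_singleton _)
  have hP0 : ∀ i, Ideal.span {f i} ≠ ⊥ := fun i => by simpa using hf0 i
  have : FiniteDimensional F (Kummer.M (F := F) t) := Kummer.finiteDimensional hn1 ht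
  have hkn : ∀ i, k i ∣ n i := fun i => by
    obtain ⟨_, _, _, _, _, _, _, -, -, -, hdom⟩ := Val.exists_dominates (F := F) (hWi i) (hP0 i) (hP1 i)
    have hn' := (Exact.at_param (F := F) hm hf hn1 ht (hP1 i) (Ideal.mem_span_singleton_self _) (hWi i)).1
    rw [← hn', Abhy.e_mul hdom (bot_le : ⊥ ≤ L) hle]
    exact dvd_mul_right _ _
  have hk1 : ∀ i, 1 ≤ k i := fun i => Nat.pos_of_dvd_of_pos (hkn i) (hn1 i)
  have hku : ∀ i, IsUnit ((k i : ℕ) : ResidueField A) := fun i =>
    isUnit_of_dvd_unit (Nat.cast_dvd_cast (hkn i)) (hn i).2.1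
  have hkA : ∀ i, IsUnit ((k i : ℕ) : A) := fun i => by
    by_contra h
    exact (hku i).ne_zero (by rw [← map_natCast (residue A)]; exact (residue_eq_zero_iff _).2 h)
  have hgood' : Basic.Good f k L := by
    intro P hP h0 h1 W hW
    obtain ⟨hS, he, hdvd⟩ := hgood P hP h0 h1 W hW
    refine ⟨hS, he, fun m hkm => ?_⟩
    by_cases hex : ∃ i, f i ∈ P
    · obtain ⟨i, hi⟩ := hex
      obtain rfl := Basic.eq_span_of_mem (hf0 i) hi h1
      have hu1 := (Exact.at_param (F := F) hm hf hn1 ht (hP1 i) (Ideal.mem_span_singleton_self _) hW).2 _ (hWi i)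
      have hu2 := (Exact.at_param (F := F) hm hf hn1 ht (hP1 i) (Ideal.mem_span_singleton_self _) (hWi i)).2 _ hW
      rw [e_congr (W' := Wi i) (bot_le : ⊥ ≤ L) (SetLike.ext fun x =>
        ⟨fun hx => hu1 _ (hle x.2) hx, fun hx => hu2 _ (hle x.2) hx⟩)]
      exact hkm i hi
    · push Not at hex
      exact hdvd m fun i hi => absurd hi (hex i)
  let s : Fin r → Ω := fun i => t i ^ (n i / k i)
  have hs : ∀ i, s i ^ k i = algebraMap A Ω (f i) := fun i => by
    rw [← pow_mul, Nat.div_mul_cancel (hkn i), ht]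
  have hkF : ∀ i, (k i : F) ≠ 0 := fun i => by
    rw [← map_natCast (algebraMap A F)]
    exact ((hkA i).map _).ne_zero
  have hLM : L ≤ Kummer.M s := Strict.le_kummer hm hf k hk1 hkF s hs L hgood'
  let M' : IntermediateField F Ω := Kummer.M s
  have : FiniteDimensional F M' := Kummer.finiteDimensional hk1 hs
  have : Algebra.IsSeparable F M' := Kummer.isSeparable hkF hf0 hs
  obtain ⟨nM, hgoodM⟩ := exists_good_kummer (F := F) hm hf hk1 hkA hs
  -- `B` is the integral closure of `A` in `L`
  let φ₀ : B →ₐ[A] L := ((AlgEquiv.ofInjectiveField ι).toAlgHom.restrictScalars A).comp (IsScalarTower.toAlgHom A B L₀)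
  have hφ₀ : Function.Injective φ₀ := (AlgEquiv.ofInjectiveField ι).injective.comp hBL
  let φ : B →ₐ[A] integralClosure A L := φ₀.codRestrict _ fun b => (Algebra.IsIntegral.isIntegral (R := A) b).map φ₀
  have hφ : Function.Bijective φ := by
    refine ⟨fun a b h => hφ₀ (congrArg Subtype.val h), fun x => ?_⟩
    obtain ⟨y, hy⟩ := (AlgEquiv.ofInjectiveField ι).surjective (x : L)
    have hint : IsIntegral A y := (isIntegral_algHom_iff ((AlgEquiv.ofInjectiveField ι).toAlgHom.restrictScalars A)
      (AlgEquiv.ofInjectiveField ι).injective).1 (by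
        show IsIntegral A (AlgEquiv.ofInjectiveField ι y)
        rw [hy]; exact x.2)
    obtain ⟨b, hb⟩ := IsIntegrallyClosed.isIntegral_iff.1 (hint.tower_top (A := B))
    exact ⟨b, Subtype.ext ((congrArg (AlgEquiv.ofInjectiveField ι) hb).trans hy)⟩
  let eB : B ≃ₐ[A] integralClosure A L := AlgEquiv.ofBijective φ hφ
  let BL := integralClosure A L
  let C := integralClosure A M'
  have : IsRegularLocalRing BL := IsRegularLocalRing.of_ringEquiv eB.toRingEquiv
  have : IsIntegrallyClosed BL := Groth.Agent.Lib.Regular.UFD.isIntegrallyClosed BL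
  have : Module.Finite A BL := Module.Finite.equiv eB.toLinearEquiv
  have : FaithfulSMul A BL := (faithfulSMul_iff_algebraMap_injective _ _).2 (Val.injective_integralClosure L)
  have : Algebra.IsIntegral A BL := Algebra.IsIntegral.of_finite A BL
  have : IsLocalHom (algebraMap A BL) := Algebra.IsIntegral.isLocalHom _ _
  have hh : EtCoh.IsStrictlyHenselianLocalRing BL := Groth.Agent.S14620.result (algebraMap A BL)
    (RingHom.finite_algebraMap.2 inferInstance) ⟨inferInstance, inferInstance⟩
  obtain ⟨_, _⟩ := hh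
  let _ := (Val.inc (A := A) hLM).toAlgebra
  have : IsScalarTower A BL C := IsScalarTower.of_algebraMap_eq fun a => ((Val.inc (A := A) hLM).commutes a).symm
  have : Module.Finite A C := IsIntegralClosure.finite A F M' C
  have : Module.Finite BL C := Module.Finite.of_restrictScalars_finite A _ _
  have : IsIntegrallyClosed C := integralClosure.isIntegrallyClosedOfFiniteExtension F
  have hinc : Function.Injective (algebraMap BL C) := fun a b hab =>
    Subtype.ext ((IntermediateField.inclusion hLM).toRingHom.injective (congrArg Subtype.val hab))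
  have : Module.Free A BL := Module.Free.of_equiv eB.toLinearEquiv
  have : Module.Flat A BL := inferInstance
  have : Algebra.Etale BL C := by
    refine Groth.Agent.Lib.Purity.Etale.etale_of_unramified hinc fun p hp hp1 q hq => ?_
    have hqP : q.asIdeal.comap (algebraMap A C) = p.under A := by
      rw [Ideal.under, ← hq, Ideal.comap_comap, ← IsScalarTower.algebraMap_eq]
    by_cases h0 : q.asIdeal.comap (algebraMap A C) = ⊥
    · exact Basic.unramifiedAt_bot hLM q.asIdeal h0
    have hP' : (q.asIdeal.comap (algebraMap A C)).height ≤ 1 := by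
      rw [hqP, ← Groth.Agent.Lib.Dim.Integral.height_eq_height_under]
      exact hp1
    refine Val.isUnramifiedAt hLM q.asIdeal h0 hP' fun W hW => ?_
    obtain ⟨hSM, -, hdM⟩ := hgoodM _ inferInstance h0 hP' W hW
    obtain ⟨_, _, _, _, _, _, _, -, -, -, hdom⟩ := Val.exists_dominates (F := F) hW h0 hP'
    refine ⟨?_, ((Abhy.S_iff hdom (bot_le : ⊥ ≤ L) hLM).1 hSM).2⟩
    have hmul := Abhy.e_mul hdom (bot_le : ⊥ ≤ L) hLM
    by_cases hex : ∃ i, f i ∈ q.asIdeal.comap (algebraMap A C)
    · obtain ⟨i, hi⟩ := hex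
      have heM := (Exact.at_param (F := F) hm hf hk1 hs hP' hi hW).1
      have hPeq := Basic.eq_span_of_mem (hf0 i) hi hP'
      have hWs : Val.Centred A W (Ideal.span {f i}) := hPeq ▸ hW
      have hu1 := (Exact.at_param (F := F) hm hf hk1 hs (hP1 i) (Ideal.mem_span_singleton_self _) hWs).2 _ (hWi i)
      have hu2 := (Exact.at_param (F := F) hm hf hk1 hs (hP1 i) (Ideal.mem_span_singleton_self _) (hWi i)).2 _ hWs
      rw [heM, e_congr (W' := Wi i) (bot_le : ⊥ ≤ L) (SetLike.ext fun x =>
        ⟨fun hx => hu1 _ (hLM x.2) hx, fun hx => hu2 _ (hLM x.2) hx⟩)] at hmul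
      exact Nat.eq_of_mul_eq_mul_left (hk1 i) (by rw [mul_one]; exact hmul.symm)
    · push Not at hex
      have := hdM 1 fun i hi => absurd hi (hex i)
      rw [hmul] at this
      exact Nat.dvd_one.1 ((dvd_mul_left _ _).trans this)
  have hsurj := Strict.surjective_of_unramified (R := BL) (S := C)
  obtain ⟨eK, -⟩ := Kummer.exists_equiv (F := F) hm hf hk1 hs
  exact ⟨k, hk1, hku, ⟨eB.trans ((AlgEquiv.ofBijective (Val.inc (A := A) hLM) ⟨hinc, hsurj⟩).trans eK.symm)⟩⟩

end Groth.Agent.Lib.Abhyankar.Regular
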