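import Groth.Agent.Lib.Abhyankar.BaseChange
import Groth.Agent.Lib.Abhyankar.Field
import Groth.Agent.Lib.Abhyankar.Exact
import Groth.Agent.Lib.Abhyankar.Strict
import Groth.Agent.S9307
import Groth.Agent.S2743
import Groth.Agent.H48.FSExtApply

/-!
The ramification orders of a tame cover are invertible in the residue field.
-/

set_option autoImplicit false
universe u

open IsLocalRing EtRam
open scoped TensorProduct

namespace Groth.Agent.Lib.Abhyankar.Units

open Groth.Agent.H48

variable {A : Type u} [CommRing A] [IsDomain A] [IsRegularLocalRing A] [IsIntegrallyClosed A]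
  {F : Type u} [Field F] [Algebra A F] [IsFractionRing A F]
  {r : ℕ} {f : Fin r → A} [∀ i, (Ideal.span {f i}).IsPrime] (hm : ∀ i, f i ∈ maximalIdeal A)
  (hf : LinearIndependent (ResidueField A) (fun i => (maximalIdeal A).toCotangent ⟨f i, hm i⟩))

/-- The algebra structure of the local ring at a prime on the fraction field. -/
noncomputable abbrev locAlgebra (A : Type u) [CommRing A] [IsDomain A] (F : Type u) [Field F] [Algebra A F]
    [IsFractionRing A F] (P : Ideal A) [P.IsPrime] : Algebra (Localization.AtPrime P) F :=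
  (IsLocalization.lift (M := P.primeCompl) (g := algebraMap A F) fun y =>
    (IsFractionRing.to_map_ne_zero_of_mem_nonZeroDivisors
      (Ideal.primeCompl_le_nonZeroDivisors P y.2) : algebraMap A F y ≠ 0).isUnit).toAlgebra

include hm hf in
/-- The index of a valuation over a parameter is invertible in the residue field. -/
theorem index_unit (B : Type u) [CommRing B] [Algebra A B] [Algebra (Localization.Away (∏ i, f i)) B]
    [IsScalarTower A (Localization.Away (∏ i, f i)) B]
    [Algebra.Etale (Localization.Away (∏ i, f i)) B] [Module.Finite (Localization.Away (∏ i, f i)) B]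
    (L₀ : Type u) [Field L₀] [Algebra F L₀] [FiniteDimensional F L₀] [Algebra.IsSeparable F L₀] [Algebra A L₀]
    [IsScalarTower A F L₀] (σ : B →ₐ[A] L₀) (hσ : Subfield.closure (Set.range σ) = ⊤)
    (ht : ∀ (i : Fin r) (g : Localization.AtPrime (Ideal.span {f i}) →+* L₀),
      (∀ a, g (algebraMap A _ a) = algebraMap A L₀ a) →
        IsTamelyRamified (Localization.AtPrime (Ideal.span {f i})) g)
    (i : Fin r) (g : Localization.AtPrime (Ideal.span {f i}) →+* L₀)
    (hg : ∀ a, g (algebraMap A _ a) = algebraMap A L₀ a) (V : ValuationSubring L₀)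
    (hV : Dominates (Localization.AtPrime (Ideal.span {f i})) g V) :
    letI : Algebra (Localization.AtPrime (Ideal.span {f i})) V := (RingHom.codRestrict g V hV.1).toAlgebra
    ∀ [IsLocalHom (algebraMap (Localization.AtPrime (Ideal.span {f i})) V)],
    ((Ideal.ramificationIdx' (maximalIdeal (Localization.AtPrime (Ideal.span {f i}))) (maximalIdeal V) : ℕ) :
      ResidueField A) ≠ 0 := by
  classical
  intro hVloc
  let S := Groth.Agent.Lib.Henselian.StrictHenselization.StrictHenselization A
  have : IsNoetherianRing S := Groth.Agent.Lib.Henselian.Permanence.strict_isNoetherianRing A S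
  have : IsRegularLocalRing S := (Groth.Agent.S2743.result A S).2 ‹_›
  have : IsDomain S := Groth.Agent.Lib.Regular.Quotient.isDomain S
  have : IsIntegrallyClosed S := Groth.Agent.Lib.Regular.UFD.isIntegrallyClosed S
  have : Module.Flat A S := Groth.Agent.Lib.Henselian.StrictHenselization.flat A S
  have : Module.FaithfullyFlat A S := Groth.Agent.Lib.Henselian.StrictHenselization.faithfullyFlat A S
  have hS : Hensel.IsStrictHenselization A S := inferInstance
  have : HenselianLocalRing S := hS.henselian
  have : IsSepClosed (ResidueField S) := hS.isSepClosure.sep_closed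
  have hmax := Groth.Agent.Lib.Henselian.StrictHenselization.map_maximalIdeal A S
  have hAS : Function.Injective (algebraMap A S) := FaithfulSMul.algebraMap_injective A S
  have hm' : ∀ k, algebraMap A S (f k) ∈ maximalIdeal S := fun k => map_nonunit _ _ (hm k)
  have hf' := BaseChange.linearIndependent_map A S hmax f hm hf hm'
  let f' : Fin r → S := fun k => algebraMap A S (f k)
  have hprime : ∀ k, (Ideal.span {f' k}).IsPrime := fun k => by
    have := Groth.Agent.Lib.Regular.DirectLimit.quotient_regular (hm' k) fun h =>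
      hf'.ne_zero k ((Ideal.toCotangent_eq_zero _ _).2 h)
    have := Groth.Agent.Lib.Regular.Quotient.isDomain (S ⧸ Ideal.span {f' k})
    exact (Ideal.Quotient.isDomain_iff_prime _).1 inferInstance
  have hf0 := Strict.ne_zero hm hf
  have hf0' : ∀ k, f' k ≠ 0 := fun k => (map_ne_zero_iff _ hAS).2 (hf0 k)
  have hcomap : ∀ k, (Ideal.span {f' k}).comap (algebraMap A S) = Ideal.span {f k} := fun k => by
    rw [show Ideal.span {f' k} = (Ideal.span {f k}).map (algebraMap A S) from by
      rw [Ideal.map_span, Set.image_singleton]]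
    exact Ideal.comap_map_eq_self_of_faithfullyFlat _
  let F' := FractionRing S
  have hAF' : Function.Injective ((algebraMap S F').comp (algebraMap A S)) :=
    (IsFractionRing.injective S F').comp hAS
  let _ : Algebra F F' := (IsFractionRing.lift hAF').toAlgebra
  have hFF' : ∀ a, algebraMap F F' (algebraMap A F a) = algebraMap S F' (algebraMap A S a) :=
    fun a => IsFractionRing.lift_algebraMap hAF' a
  let φ := fun k => Localization.localRingHom (Ideal.span {f k}) (Ideal.span {f' k}) (algebraMap A S) (hcomap k).symm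
  let algR := fun k => locAlgebra A F (Ideal.span {f k})
  let algR' := fun k => locAlgebra S F' (Ideal.span {f' k})
  let R := Localization.AtPrime (Ideal.span {f i})
  let R' := Localization.AtPrime (Ideal.span {f' i})
  have hloc : ∀ k a, (algR k).algebraMap (algebraMap A _ a) = algebraMap A F a := fun k a =>
    IsLocalization.lift_eq _ a
  have hloc' : ∀ k a, (algR' k).algebraMap (algebraMap S _ a) = algebraMap S F' a := fun k a =>
    IsLocalization.lift_eq _ a
  have hφF : ∀ k x, algebraMap F F' ((algR k).algebraMap x) = (algR' k).algebraMap (φ k x) := fun k x =>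
    RingHom.congr_fun (IsLocalization.ringHom_ext (Ideal.span {f k}).primeCompl
      (j := (algebraMap F F').comp (algR k).algebraMap) (k := ((algR' k).algebraMap).comp (φ k))
      (RingHom.ext fun a => by
        simp only [RingHom.comp_apply, φ, Localization.localRingHom_to_map, hloc, hloc', hFF'])) x
  have hgeq : ∀ k (g : Localization.AtPrime (Ideal.span {f k}) →+* L₀),
      (∀ a, g (algebraMap A _ a) = algebraMap A L₀ a) → g = (algebraMap F L₀).comp (algR k).algebraMap :=
    fun k g hg => IsLocalization.ringHom_ext (Ideal.span {f k}).primeCompl (RingHom.ext fun a => by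
      simp only [RingHom.comp_apply, hg, hloc, ← IsScalarTower.algebraMap_apply A F L₀])
  let _ : Algebra R F := algR i
  let _ : Algebra R' F' := algR' i
  have : IsScalarTower A R F := IsScalarTower.of_algebraMap_eq fun a => (hloc i a).symm
  have : IsScalarTower S R' F' := IsScalarTower.of_algebraMap_eq fun a => (hloc' i a).symm
  have : IsFractionRing R F :=
    IsFractionRing.isFractionRing_of_isDomain_of_isLocalization (Ideal.span {f i}).primeCompl _ _
  have : IsFractionRing R' F' :=
    IsFractionRing.isFractionRing_of_isDomain_of_isLocalization (Ideal.span {f' i}).primeCompl _ _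
  have hP0 : ∀ k, Ideal.span {f k} ≠ ⊥ := fun k => by simpa using hf0 k
  have hP0' : ∀ k, Ideal.span {f' k} ≠ ⊥ := fun k => by simpa using hf0' k
  have hP1 : ∀ k, (Ideal.span {f k}).height ≤ 1 := fun k =>
    Ideal.height_le_one_of_isPrincipal_of_mem_minimalPrimes (Ideal.span {f k}) _
      (by rw [Ideal.minimalPrimes_eq_subsingleton_self]; exact Set.mem_singleton _)
  have hP1' : ∀ k, (Ideal.span {f' k}).height ≤ 1 := fun k =>
    Ideal.height_le_one_of_isPrincipal_of_mem_minimalPrimes (Ideal.span {f' k}) _
      (by rw [Ideal.minimalPrimes_eq_subsingleton_self]; exact Set.mem_singleton _)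
  have := Val.isDVR_atPrime A _ (hP0 i) (hP1 i)
  have := Val.isDVR_atPrime S _ (hP0' i) (hP1' i)
  have hφinj : Function.Injective (φ i) := fun a b h => IsFractionRing.injective R F ((algebraMap F F').injective (by
    show algebraMap F F' ((algR i).algebraMap a) = algebraMap F F' ((algR i).algebraMap b)
    rw [hφF, hφF, h]))
  obtain rfl := hgeq i g hg
  have hV' : Dominates R ((algebraMap F L₀).comp (algebraMap R F)) V := hV
  obtain ⟨Ω, _, _, _, j, hj, W, hW, hWV⟩ := BaseChange.exists_over (K := F) (K' := F') (φ i) hφinj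
    (fun a => hφF i a) V hV'
  let _ : Algebra F Ω := ((algebraMap F' Ω).comp (algebraMap F F')).toAlgebra
  have : IsScalarTower F F' Ω := IsScalarTower.of_algebraMap_eq fun _ => rfl
  let _ : Algebra S Ω := ((algebraMap F' Ω).comp (algebraMap S F')).toAlgebra
  have : IsScalarTower S F' Ω := IsScalarTower.of_algebraMap_eq fun _ => rfl
  let ja : L₀ →ₐ[F] Ω := { j with commutes' := hj }
  let L' : IntermediateField F' Ω := IntermediateField.adjoin F' (Set.range ja)
  let jL : L₀ →ₐ[F] L' := ja.codRestrict (L'.toSubalgebra.restrictScalars F) fun x =>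
    IntermediateField.subset_adjoin F' _ ⟨x, rfl⟩
  have halg : ∀ x, IsIntegral F' (ja x) := fun x => ((Algebra.IsIntegral.isIntegral (R := F) x).map ja).tower_top
  have hgen : Algebra.adjoin F' (Set.range jL) = ⊤ := by
    refine eq_top_iff.2 fun y _ => ?_
    have he := IntermediateField.adjoin_toSubalgebra_of_isAlgebraic (F := F') (S := Set.range ja)
      (fun y hy => by obtain ⟨x, rfl⟩ := hy; exact (halg x).isAlgebraic)
    have hy : (y : Ω) ∈ Algebra.adjoin F' (Set.range ja) := he.le y.2
    suffices hmap : Algebra.adjoin F' (Set.range ja) ≤ (Algebra.adjoin F' (Set.range jL)).map L'.val by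
      obtain ⟨z, hz, hzy⟩ := hmap hy
      rwa [show y = z from Subtype.ext hzy.symm]
    refine Algebra.adjoin_le ?_
    rintro _ ⟨x, rfl⟩
    exact ⟨jL x, Algebra.subset_adjoin ⟨x, rfl⟩, rfl⟩
  have : FiniteDimensional F' L' := FSExt.finite_of_adjoin jL hgen
  have : Algebra.IsSeparable F' L' := (IntermediateField.isSeparable_adjoin_iff_isSeparable F' Ω).2 (by
    rintro _ ⟨x, rfl⟩
    have hx : IsSeparable F (ja x) := by
      show (minpoly F (ja x)).Separable
      rw [minpoly.algHom_eq ja ja.injective]
      exact Algebra.IsSeparable.isSeparable F x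
    exact hx.tower_top F')
  -- the cover over the strict henselization
  let Af := Localization.Away (∏ k, f k)
  let Sg := Localization.Away (∏ k, f' k)
  have hu : IsUnit (algebraMap A Sg (∏ k, f k)) := by
    rw [IsScalarTower.algebraMap_apply A S Sg, map_prod]
    exact IsLocalization.Away.algebraMap_isUnit _
  let _ : Algebra Af Sg := (IsLocalization.Away.lift (S := Af) (∏ k, f k) hu).toAlgebra
  have hAfSg : ∀ a, algebraMap Af Sg (algebraMap A Af a) = algebraMap S Sg (algebraMap A S a) := fun a =>
    (IsLocalization.Away.lift_eq (S := Af) (∏ k, f k) hu a).trans (IsScalarTower.algebraMap_apply A S Sg a)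
  have : SMulCommClass Af S Sg := ⟨fun a s x => by simp only [Algebra.smul_def]; ring⟩
  let B' := Sg ⊗[Af] B
  let uS : Sg →+* L' := IsLocalization.Away.lift (S := Sg) (g := algebraMap S L') (∏ k, f' k)
    (isUnit_iff_ne_zero.2 ((map_ne_zero_iff _ (by
      rw [IsScalarTower.algebraMap_eq S F' L']
      exact (algebraMap F' L').injective.comp (IsFractionRing.injective S F'))).2
        (Finset.prod_ne_zero_iff.2 fun k _ => hf0' k)))
  have huS : ∀ s, uS (algebraMap S Sg s) = algebraMap S L' s := fun s => IsLocalization.Away.lift_eq _ _ s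
  have hjA : ∀ a, jL (algebraMap A L₀ a) = algebraMap S L' (algebraMap A S a) := fun a => Subtype.ext (by
    show j (algebraMap A L₀ a) = algebraMap S Ω (algebraMap A S a)
    rw [IsScalarTower.algebraMap_apply A F L₀, hj, hFF']
    rfl)
  let _ : Algebra Af L' := (uS.comp (algebraMap Af Sg)).toAlgebra
  let uS' : Sg →ₐ[Af] L' := { uS with commutes' := fun _ => rfl }
  let uB : B →ₐ[Af] L' := { (jL.toRingHom.comp σ.toRingHom) with
    commutes' := fun x => RingHom.congr_fun (IsLocalization.ringHom_ext (Submonoid.powers (∏ k, f k))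
      (j := (jL.toRingHom.comp σ.toRingHom).comp (algebraMap Af B)) (k := algebraMap Af L') (RingHom.ext fun a => by
        show jL (σ (algebraMap Af B (algebraMap A Af a))) = uS (algebraMap Af Sg (algebraMap A Af a))
        rw [← IsScalarTower.algebraMap_apply A Af B, σ.commutes, hAfSg, huS, hjA])) x }
  let τ : B' →ₐ[Af] L' := Algebra.TensorProduct.lift uS' uB fun _ _ => Commute.all _ _
  have hτ : ∀ s b, τ (s ⊗ₜ b) = uS s * jL (σ b) := fun s b => Algebra.TensorProduct.lift_tmul _ _ _ s b
  let σ' : B' →ₐ[S] L' := { τ.toRingHom with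
    commutes' := fun s => by
      show τ (algebraMap S Sg s ⊗ₜ 1) = _
      rw [hτ, map_one, map_one, mul_one, huS] }
  have hσ' : Subfield.closure (Set.range σ') = ⊤ := by
    refine eq_top_iff.2 fun y hy0 => ?_
    clear hy0
    let C := Subfield.closure (Set.range σ')
    have hB : ∀ b, jL (σ b) ∈ C := fun b => Subfield.subset_closure ⟨1 ⊗ₜ b, by
      show τ (1 ⊗ₜ b) = _
      rw [hτ, map_one, one_mul]⟩
    have hS' : ∀ s, algebraMap S L' s ∈ C := fun s => Subfield.subset_closure ⟨algebraMap S B' s, σ'.commutes s⟩
    have hF' : ∀ k, algebraMap F' L' k ∈ C := fun k => by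
      obtain ⟨a, b, -, rfl⟩ := IsFractionRing.div_surjective (A := S) k
      rw [map_div₀, ← IsScalarTower.algebraMap_apply S F' L', ← IsScalarTower.algebraMap_apply S F' L']
      exact div_mem (hS' a) (hS' b)
    have hL : ∀ x, jL x ∈ C := fun x => by
      have hx : x ∈ Subfield.closure (Set.range σ) := hσ ▸ Subfield.mem_top x
      induction hx using Subfield.closure_induction with
      | mem z hz => obtain ⟨b, rfl⟩ := hz; exact hB b
      | one => rw [map_one]; exact one_mem _
      | add a b _ _ ha hb => rw [map_add]; exact add_mem ha hb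
      | neg a _ ha => rw [map_neg]; exact neg_mem ha
      | inv a _ ha => rw [map_inv₀]; exact inv_mem ha
      | mul a b _ _ ha hb => rw [map_mul]; exact mul_mem ha hb
    have hy : y ∈ Algebra.adjoin F' (Set.range jL) := hgen ▸ Algebra.mem_top
    induction hy using Algebra.adjoin_induction with
    | mem z hz => obtain ⟨x, rfl⟩ := hz; exact hL x
    | algebraMap k => exact hF' k
    | add a b _ _ ha hb => exact add_mem ha hb
    | mul a b _ _ ha hb => exact mul_mem ha hb
  have htame : ∀ (k : Fin r) (g : Localization.AtPrime (Ideal.span {f' k}) →+* L'),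
      (∀ a, g (algebraMap S _ a) = algebraMap S L' a) →
        IsTamelyRamified (Localization.AtPrime (Ideal.span {f' k})) g := by
    intro k g hg
    let Rk := Localization.AtPrime (Ideal.span {f k})
    let Rk' := Localization.AtPrime (Ideal.span {f' k})
    let _ : Algebra Rk F := algR k
    let _ : Algebra Rk' F' := algR' k
    have : IsScalarTower A Rk F := IsScalarTower.of_algebraMap_eq fun a => (hloc k a).symm
    have : IsScalarTower S Rk' F' := IsScalarTower.of_algebraMap_eq fun a => (hloc' k a).symm
    have : IsFractionRing Rk F :=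
      IsFractionRing.isFractionRing_of_isDomain_of_isLocalization (Ideal.span {f k}).primeCompl _ _
    have : IsFractionRing Rk' F' :=
      IsFractionRing.isFractionRing_of_isDomain_of_isLocalization (Ideal.span {f' k}).primeCompl _ _
    have := Val.isDVR_atPrime A _ (hP0 k) (hP1 k)
    have := Val.isDVR_atPrime S _ (hP0' k) (hP1' k)
    let _ : Algebra Rk Rk' := (φ k).toAlgebra
    have : IsLocalHom (algebraMap Rk Rk') := Localization.isLocalHom_localRingHom _ _ _ _
    have hinj : Function.Injective (algebraMap Rk Rk') := fun a b h =>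
      IsFractionRing.injective Rk F ((algebraMap F F').injective (by
        show algebraMap F F' ((algR k).algebraMap a) = algebraMap F F' ((algR k).algebraMap b)
        rw [hφF, hφF]; exact congrArg _ h))
    have hbase : IsTamelyRamified Rk ((algebraMap F L₀).comp (algebraMap Rk F)) := ht k _ fun a => by
      show algebraMap F L₀ ((algR k).algebraMap (algebraMap A Rk a)) = _
      rw [hloc, ← IsScalarTower.algebraMap_apply A F L₀]
    have hc := Groth.Agent.S9307.core Rk Rk' F F' L₀ L' hinj (fun a => (hφF k a).symm) hbase jL hgen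
    have : g = (algebraMap F' L').comp (algebraMap Rk' F') :=
      IsLocalization.ringHom_ext (Ideal.span {f' k}).primeCompl (RingHom.ext fun a => by
        show g (algebraMap S _ a) = algebraMap F' L' ((algR' k).algebraMap (algebraMap S _ a))
        rw [hg, hloc', ← IsScalarTower.algebraMap_apply S F' L'])
    rw [this]
    exact hc
  obtain ⟨n, hn, hgood⟩ := Field.exists_good (F := F') (Ω := Ω) f' hf0' B' L' σ' hσ' htame L'.val
  rw [L'.fieldRange_val] at hgood
  obtain ⟨m, hm2, t, htt, hle⟩ := Strict.exists_le hm' hf' n (fun k => (hn k).1) (fun k => (hn k).2) L' hgood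
  have hm1 : ∀ k, 1 ≤ m k := fun k => (hm2 k).1
  have hWc : Val.Centred S W (Ideal.span {f' i}) := by
    have hmem : ∀ s, algebraMap S Ω s = algebraMap F' Ω (algebraMap R' F' (algebraMap S R' s)) := fun s => by
      rw [← IsScalarTower.algebraMap_apply S R' F', ← IsScalarTower.algebraMap_apply S F' Ω]
    refine ⟨fun s => hmem s ▸ hW.1 _, fun s => ?_⟩
    rw [hmem]
    refine ⟨fun h => ?_, fun h => hW.2 _ ((IsLocalization.AtPrime.to_map_mem_maximal_iff R' _ s).2 h)⟩
    by_contra hs
    obtain ⟨v, hv⟩ := (IsLocalization.map_units R' (⟨s, hs⟩ : (Ideal.span {f' i}).primeCompl)).exists_right_inv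
    have h1 : W.valuation (algebraMap F' Ω (algebraMap R' F' v)) ≤ 1 := (W.valuation_le_one_iff _).2 (hW.1 v)
    have h2 := congrArg (fun x => W.valuation (algebraMap F' Ω (algebraMap R' F' x))) hv
    simp only [map_mul, map_one] at h2
    exact absurd h2 ((mul_lt_one_of_lt_of_le h h1).ne)
  have hparam := (Exact.at_param (F := F') hm' hf' hm1 htt (hP1' i) (Ideal.mem_span_singleton_self _) hWc).1
  have : FiniteDimensional F' (Kummer.M (F := F') t) := Kummer.finiteDimensional hm1 htt
  rw [Abhy.e_mul hW (bot_le : ⊥ ≤ L') hle] at hparam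
  have := Abhy.isDVR hW L'
  have : IsDiscreteValuationRing V := FSExt.isDVR _ hV'
  let _ : Algebra R' (Abhy.V W L') := (Abhy.base hW L').toAlgebra
  have hloc2 : IsLocalHom (algebraMap R' (Abhy.V W L')) := DomVal.isLocalHom_of_dominates (Abhy.dominates hW _)
  obtain ⟨hbe, -, -, -⟩ := Abhy.base_iff hW L'
  let _ : Algebra R R' := (φ i).toAlgebra
  have : IsLocalHom (algebraMap R R') := Localization.isLocalHom_localRingHom _ _ _ _
  let _ : Algebra R V := (RingHom.codRestrict ((algebraMap F L₀).comp (algebraMap R F)) V hV'.1).toAlgebra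
  have : IsLocalHom (algebraMap R V) := hVloc
  let ψ : V →+* Abhy.V W L' := RingHom.codRestrict (jL.toRingHom.comp V.subtype) (Abhy.V W L') fun x => by
    have : (x : L₀) ∈ W.comap j := by rw [hWV]; exact x.2
    exact this
  let _ : Algebra V (Abhy.V W L') := ψ.toAlgebra
  have hψloc : IsLocalHom (algebraMap V (Abhy.V W L')) := ⟨fun x hx => by
    obtain ⟨y, hy⟩ := hx.exists_right_inv
    have hy' : (j x : Ω) * ((y : L') : Ω) = 1 := congrArg (fun z : Abhy.V W L' => ((z : L') : Ω)) hy
    have hx0 : (x : L₀) ≠ 0 := fun h => by simp [h] at hy'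
    have : (x : L₀)⁻¹ ∈ V := by
      have hy2 : ((y : L') : Ω) = j (x : L₀)⁻¹ := by rw [map_inv₀]; exact eq_inv_of_mul_eq_one_right hy'
      refine (SetLike.ext_iff.1 hWV _).1 ?_
      rw [ValuationSubring.mem_comap, ← hy2]
      exact y.2
    exact IsUnit.of_mul_eq_one ⟨_, this⟩ (Subtype.ext (mul_inv_cancel₀ hx0))⟩
  let _ : Algebra R (Abhy.V W L') := (ψ.comp (algebraMap R V)).toAlgebra
  have : IsScalarTower R V (Abhy.V W L') := IsScalarTower.of_algebraMap_eq fun _ => rfl
  have : IsScalarTower R R' (Abhy.V W L') := IsScalarTower.of_algebraMap_eq fun a => Subtype.ext (Subtype.ext (by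
    show j (algebraMap F L₀ ((algR i).algebraMap a)) = algebraMap F' Ω ((algR' i).algebraMap (φ i a))
    rw [hj, hφF]))
  have : IsLocalHom (algebraMap R (Abhy.V W L')) := by
    rw [IsScalarTower.algebraMap_eq R V (Abhy.V W L')]; exact RingHom.isLocalHom_comp _ _
  have hinjV : Function.Injective (algebraMap R V) := fun a b h =>
    IsFractionRing.injective R F ((algebraMap F L₀).injective (congrArg Subtype.val h))
  have hinjψ : Function.Injective ψ := fun a b h => Subtype.ext (j.injective
    (congrArg (fun z : Abhy.V W L' => ((z : L') : Ω)) h))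
  have hinj' : Function.Injective (algebraMap R' (Abhy.V W L')) := fun a b h =>
    IsFractionRing.injective R' F' ((algebraMap F' L').injective (congrArg Subtype.val h))
  have h1 := DomVal.ramificationIdx_mul hinjV hinjψ
  have h2 := DomVal.ramificationIdx_mul (A := R) (V := R') (W := Abhy.V W L') hφinj hinj'
  have hwu : IsWeaklyUnramified R R' := by
    rw [IsWeaklyUnramified, ← IsLocalization.AtPrime.map_eq_maximalIdeal (Ideal.span {f i}) R,
      ← IsLocalization.AtPrime.map_eq_maximalIdeal (Ideal.span {f' i}) R', Ideal.map_span, Set.image_singleton,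
      Ideal.map_span, Set.image_singleton, Ideal.map_span, Set.image_singleton]
    congr 2
    exact Localization.localRingHom_to_map _ _ _ _ _
  rw [(DomVal.isWeaklyUnramified_iff hφinj).1 hwu, one_mul, hbe] at h2
  intro h0
  have hmu := (hm2 i).2.1
  refine hmu.ne_zero ?_
  rw [← hparam, ← h2, h1, Nat.cast_mul, Nat.cast_mul, ← map_natCast (algebraMap (ResidueField A) (ResidueField S)),
    h0, map_zero, zero_mul, zero_mul]

include hm hf in
/-- The orders can be chosen invertible in the residue field. -/
theorem exists_good {Ω : Type u} [Field Ω] [Algebra F Ω] [Algebra A Ω] [IsScalarTower A F Ω]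
    (B : Type u) [CommRing B] [Algebra A B] [Algebra (Localization.Away (∏ i, f i)) B]
    [IsScalarTower A (Localization.Away (∏ i, f i)) B]
    [Algebra.Etale (Localization.Away (∏ i, f i)) B] [Module.Finite (Localization.Away (∏ i, f i)) B]
    (L₀ : Type u) [Field L₀] [Algebra F L₀] [FiniteDimensional F L₀] [Algebra.IsSeparable F L₀] [Algebra A L₀]
    [IsScalarTower A F L₀] (σ : B →ₐ[A] L₀) (hσ : Subfield.closure (Set.range σ) = ⊤)
    (ht : ∀ (i : Fin r) (g : Localization.AtPrime (Ideal.span {f i}) →+* L₀),
      (∀ a, g (algebraMap A _ a) = algebraMap A L₀ a) →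
        IsTamelyRamified (Localization.AtPrime (Ideal.span {f i})) g)
    (ι : L₀ →ₐ[F] Ω) :
    ∃ n : Fin r → ℕ, (∀ i, 1 ≤ n i ∧ IsUnit ((n i : ℕ) : ResidueField A)) ∧ Basic.Good f n ι.fieldRange := by
  classical
  have hf0 := Strict.ne_zero hm hf
  obtain ⟨n, hn, hgood⟩ := Field.exists_good (F := F) (Ω := Ω) f hf0 B L₀ σ hσ ht ι
  obtain ⟨p, hp⟩ := CharP.exists (ResidueField A)
  let m : Fin r → ℕ := fun i => n i / p ^ (n i).factorization p
  have hm0 : ∀ i, 1 ≤ m i := fun i => Nat.ordCompl_pos p (by have := (hn i).1; omega)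
  refine ⟨m, fun i => ⟨hm0 i, ?_⟩, ?_⟩
  · rcases CharP.char_is_prime_or_zero (ResidueField A) p with hpp | rfl
    · rw [isUnit_iff_ne_zero, ne_eq, CharP.cast_eq_zero_iff (ResidueField A) p]
      exact Nat.not_dvd_ordCompl hpp (by have := (hn i).1; omega)
    · have := CharP.charP_to_charZero (ResidueField A)
      exact isUnit_iff_ne_zero.2 (Nat.cast_ne_zero.2 (by have := hm0 i; omega))
  intro P hP h0 h1 W hW
  obtain ⟨hS, he, hdvd⟩ := hgood P hP h0 h1 W hW
  refine ⟨hS, he, fun k hk => ?_⟩
  by_cases hex : ∃ i, f i ∈ P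
  · obtain ⟨i, hi⟩ := hex
    obtain rfl := Basic.eq_span_of_mem (hf0 i) hi h1
    let R := Localization.AtPrime (Ideal.span {f i})
    have := Val.isDVR_atPrime A _ h0 h1
    let _ : Algebra R F := locAlgebra A F (Ideal.span {f i})
    have : IsScalarTower A R F := IsScalarTower.of_algebraMap_eq fun a => (IsLocalization.lift_eq _ a).symm
    have : IsFractionRing R F :=
      IsFractionRing.isFractionRing_of_isDomain_of_isLocalization (Ideal.span {f i}).primeCompl _ _
    have hdom := Tame.dominates_localization (F := F) hW R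
    have hV := Tame.dominates_comap hdom ι
    let _ : Algebra R (W.comap ι.toRingHom) := (RingHom.codRestrict _ (W.comap ι.toRingHom) hV.1).toAlgebra
    have hloc : IsLocalHom (algebraMap R (W.comap ι.toRingHom)) := DomVal.isLocalHom_of_dominates hV
    obtain ⟨hfe, -⟩ := Groth.Agent.H48.Tame.field_iff hdom ι hV
    have hune := @index_unit A _ _ _ _ F _ _ _ r f _ hm hf B _ _ _ _ _ _ L₀ _ _ _ _ _ _ σ hσ ht i _
      (fun a => by
        show algebraMap F L₀ (algebraMap R F (algebraMap A R a)) = _
        rw [← IsScalarTower.algebraMap_apply A R F, ← IsScalarTower.algebraMap_apply A F L₀]) (W.comap ι.toRingHom) hV hloc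
    rw [hfe] at hune
    have hdn : Abhy.e W (bot_le : ⊥ ≤ ι.fieldRange) ∣ n i := hdvd (n i) fun l hl => by
      rcases eq_or_ne l i with rfl | hne
      · exact dvd_rfl
      exfalso
      obtain ⟨a, ha⟩ := Ideal.mem_span_singleton'.1 hl
      refine hf.notMem_span_image (s := {i}) (x := l) (by simpa using hne) ?_
      rw [show (⟨f l, hm l⟩ : maximalIdeal A) = a • ⟨f i, hm i⟩ from Subtype.ext ha.symm, map_smul,
        Set.image_singleton]
      exact Submodule.smul_mem _ (residue A a) (Submodule.mem_span_singleton_self _)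
    refine dvd_trans ?_ (hk i hi)
    rcases CharP.char_is_prime_or_zero (ResidueField A) p with hpp | rfl
    · rw [← Nat.ordProj_mul_ordCompl_eq_self (n i) p] at hdn
      refine ((Nat.Coprime.pow_right _ ?_)).dvd_of_dvd_mul_left hdn
      exact ((Nat.Prime.coprime_iff_not_dvd hpp).2 fun hd =>
        hune ((CharP.cast_eq_zero_iff (ResidueField A) p _).2 hd)).symm
    · simpa [m] using hdn
  · push Not at hex
    exact hdvd k fun i hi => absurd hi (hex i)

end Groth.Agent.Lib.Abhyankar.Units
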